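import Cfsg.Agent.Lib.L43Three.CaseA.Small
import Cfsg.Agent.Lib.L43Three.WreathChar.Model

/-!
S3373, case A: the centraliser in the affine group of a mixed representative, modulo that
representative, is `(3 ≀ 3) : 2`; finite facts.
-/

set_option autoImplicit false
set_option maxRecDepth 20000
set_option synthInstance.maxSize 2000
set_option maxHeartbeats 1000000
set_option linter.constructorNameAsVariable false

namespace Cfsg.Agent.L43Three.CaseA

open A3 (tr upper fix1 qel Z0 eA)
open WreathChar (Z3 M162 V3)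

/-- The sign of a mixed representative. -/
def eps (s : Bool) : Z3 := if s then .d else .o

/-- The mixed representative of the given sign. -/
def rX (s : Bool) : A3 := sh .z .z .o .o (eps s) .z .z

theorem rX_eq : rX false = rXp ∧ rX true = rXm := ⟨rfl, rfl⟩

/-- A power with exponent in `Z3`. -/
def pz {M : Type} [Mul M] [One M] (g : M) : Z3 → M
  | .z => 1
  | .o => g
  | .d => g * g

/-- A power with a Boolean exponent. -/
def pb {M : Type} [One M] (g : M) : Bool → M
  | false => 1
  | true => g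

/-- The first base vector. -/
def gA : A3 := sh .o .z .o .z .z .z .z
/-- The second base vector. -/
def gB (s : Bool) : A3 := sh .o .z .o .o (Z3.neg (eps s)) (Z3.neg (eps s)) .z
/-- The third base vector. -/
def gC (s : Bool) : A3 := sh .o .z .o .d (eps s) (Z3.neg (eps s)) .z
/-- The shift. -/
def gK (s : Bool) : A3 := sh .z .o .o .z .z .z (eps s)
/-- The involution. -/
def gS : A3 := sh .z .z .d .z .z .z .z

/-- The lift of an element of the model. -/
def lift (s : Bool) (m : M162) : A3 :=
  pz gA m.v.a * pz (gB s) m.v.b * pz (gC s) m.v.c * pz (gK s) m.k * pb gS m.s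

/-- The first base vector in the model. -/
def mA : M162 := ⟨⟨.o, .z, .z⟩, .z, false⟩
/-- The shift in the model. -/
def mK : M162 := ⟨⟨.z, .z, .z⟩, .o, false⟩
/-- The involution in the model. -/
def mS : M162 := ⟨⟨.z, .z, .z⟩, .z, true⟩

theorem word_eq : ∀ m : M162, pz mA m.v.a * pz (mK * mA * (mK * mK)) m.v.b *
    pz (mK * mK * mA * mK) m.v.c * pz mK m.k * pb mS m.s = m := by decide +kernel

/-- The three powers of a representative. -/
def rPows (r : A3) : List A3 := [1, r, r * r]

theorem rX_det : ∀ s : Bool, (rX s).det = .o := by decide +kernel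

theorem rPows_det : ∀ s : Bool, ∀ j ∈ rPows (rX s), j.det = .o := by decide +kernel

theorem lift_ok : ∀ (s : Bool) (m : M162),
    (lift s m).det = .o ∧ lift s m * rX s = rX s * lift s m := by decide +kernel

theorem lift_step : ∀ (s : Bool) (m : M162), ∀ g ∈ [mA, mK, mS],
    ∃ j ∈ rPows (rX s), lift s m * lift s g = lift s (m * g) * j := by decide +kernel

theorem lift_inj : ∀ (s : Bool) (m : M162), lift s m ∈ rPows (rX s) → m = 1 := by decide +kernel

theorem lift_one : ∀ s : Bool, lift s 1 = 1 := by decide +kernel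

/-- The element of the model over an element of the centraliser. -/
def coord (s : Bool) (p : A3) : M162 :=
  let b := decide (p.e = .d)
  let k := p.d
  let q := p * pb gS b * (pz (gK s) k * pz (gK s) k)
  let u := Z3.neg (Z3.mul (eps s) q.y)
  let D := Z3.mul .d (Z3.add q.f (Z3.neg (Z3.mul (eps s) q.x)))
  ⟨⟨Z3.add q.c (Z3.neg u), Z3.mul .d (Z3.add u D), Z3.mul .d (Z3.add u (Z3.neg D))⟩, k, b⟩

theorem coord_ok : ∀ (s : Bool) (c d e f x y w : Z3), (sh c d e f x y w).det = .o →
    sh c d e f x y w * rX s = rX s * sh c d e f x y w →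
    ∃ j ∈ rPows (rX s), lift s (coord s (sh c d e f x y w)) * j = sh c d e f x y w := by
  decide +kernel

/-- The representatives of the classes of elements of order three of the model. -/
def mReps : List M162 := [⟨⟨.z, .z, .z⟩, .o, false⟩, ⟨⟨.z, .z, .o⟩, .z, false⟩,
  ⟨⟨.z, .o, .o⟩, .z, false⟩, ⟨⟨.z, .o, .d⟩, .z, false⟩, ⟨⟨.z, .d, .o⟩, .z, false⟩,
  ⟨⟨.o, .o, .o⟩, .z, false⟩, ⟨⟨.o, .o, .d⟩, .z, false⟩]

theorem mReps_ok : ∀ m : M162, m * m * m = 1 → m ≠ 1 →
    ∃ p : M162, ∃ r ∈ mReps, p * m = r * p := by decide +kernel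

theorem mReps_fix : ∀ (s : Bool), ∀ m ∈ mReps, tr .z .o .z * lift s m = lift s m * tr .z .o .z := by
  decide +kernel

theorem fix_rX : ∀ (s : Bool) (x y : Z3), tr x y .z * rX s = rX s * tr x y .z := by decide +kernel

/-- The conjugator of the lift over the shift to `rY`. -/
def yWit (s : Bool) : A3 :=
  if s then ⟨.d, .z, .o, .z, .o, .z, .o, .z, .o, .z, .z, .d⟩
  else ⟨.d, .z, .o, .z, .d, .z, .d, .z, .d, .z, .z, .d⟩

/-- The abelian pairs. -/
def pairReps : List M162 := [⟨⟨.z, .z, .o⟩, .z, false⟩, ⟨⟨.z, .o, .o⟩, .z, false⟩,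
  ⟨⟨.o, .o, .d⟩, .z, false⟩]

theorem pair_ok : ∀ (s : Bool), ∀ m ∈ pairReps, ∀ c d e f x y w : Z3, (sh c d e f x y w).det = .o →
    sh c d e f x y w * rX s = rX s * sh c d e f x y w →
    sh c d e f x y w * lift s m = lift s m * sh c d e f x y w → d = .z ∧ e = .o ∧ w = .z := by
  decide +kernel

theorem pair_plane : ∀ (s : Bool), ∀ m ∈ pairReps, ∀ x y : Z3,
    tr x y .z * lift s m = lift s m * tr x y .z := by decide +kernel

theorem reps_split : ∀ (s : Bool), ∀ m ∈ mReps, m ∈ pairReps ∨
    ((yWit s).det = .o ∧ yWit s * (lift s m * rX s) = rY * yWit s) ∨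
      ∃ j ∈ rPows (rX s), ∃ x y w : Z3, lift s m * j = tr x y w ∧ tr x y w ≠ 1 := by decide +kernel

end Cfsg.Agent.L43Three.CaseA
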