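import Cfsg.Agent.Lib.L43Three.CaseA.CentY
import Cfsg.Agent.Lib.L43Three.CaseA.XModel
import Cfsg.Agent.Lib.L43Three.WreathChar.Main

/-!
S3373, case A: the centralisers of the two mixed representatives lie in the affine group.
-/

set_option autoImplicit false
set_option linter.style.haveILetI false
set_option linter.unusedSectionVars false
set_option maxRecDepth 20000
set_option synthInstance.maxSize 2000
set_option maxHeartbeats 1000000
set_option linter.constructorNameAsVariable false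

namespace Cfsg.Agent.L43Three

open Subgroup
open WreathChar (Z3 M162)
open A3 (tr upper fix1 qel Z0 eA)

universe u

namespace SetA

variable {G : Type u} [Group G] [Finite G] (S : SetA G)
include S

theorem el_pows {r : A3} (hr : r.det = .o) {j : A3} (hj : j ∈ CaseA.rPows r) :
    S.el j ∈ zpowers (S.el r) := by
  simp only [CaseA.rPows, List.mem_cons, List.not_mem_nil, or_false] at hj
  rcases hj with rfl | rfl | rfl
  · rw [S.el_one]; exact one_mem _
  · exact mem_zpowers _
  · rw [S.el_mul hr hr]; exact mul_mem (mem_zpowers _) (mem_zpowers _)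

theorem pows_el {r : A3} (hr : r.det = .o) (h3 : r * r * r = 1) {g : G}
    (hg : g ∈ zpowers (S.el r)) : ∃ j ∈ CaseA.rPows r, S.el j = g := by
  obtain ⟨n, rfl⟩ := mem_zpowers_iff.1 hg
  have e3 : S.el r ^ 3 = 1 := (S.el_pow_three hr).2 h3
  have hn : S.el r ^ n = S.el r ^ (n % 3).toNat := by
    conv_lhs => rw [← Int.emod_add_mul_ediv n 3]
    rw [zpow_add, zpow_mul, zpow_ofNat, e3, one_zpow, mul_one, ← zpow_natCast,
      Int.toNat_of_nonneg (Int.emod_nonneg _ (by norm_num))]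
  have hlt : (n % 3).toNat < 3 := by omega
  rw [hn]
  interval_cases (n % 3).toNat
  · exact ⟨1, List.mem_cons_self, by rw [S.el_one, pow_zero]⟩
  · exact ⟨r, by simp [CaseA.rPows], by rw [pow_one]⟩
  · exact ⟨r * r, by simp [CaseA.rPows], by rw [S.el_mul hr hr, pow_two]⟩

/-- An element centralising `x` and moving `a` inside its coset of `⟨x⟩`. -/
theorem move_mem {r a g v : G}
    (hC : centralizer ({r} : Set G) ⊓ centralizer ({a} : Set G) ≤ S.iota.range)
    (hv : v ∈ S.V) (hv1 : v ≠ 1) (hvr : Commute v r) (hva : Commute v a) (hg : Commute g r)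
    (ha : (g * a * g⁻¹) * a⁻¹ ∈ zpowers r) : g ∈ S.iota.range := by
  refine S.ti (S.V_le hv) (S.pure_V hv hv1) (hC ⟨?_, ?_⟩)
  · refine mem_centralizer_singleton_iff.2 ?_
    have h := ((Commute.conj_iff g).2 hvr).eq
    rw [show g * r * g⁻¹ = r by rw [hg.eq, mul_inv_cancel_right]] at h
    exact h
  · refine mem_centralizer_singleton_iff.2 ?_
    obtain ⟨n, hn⟩ := mem_zpowers_iff.1 ha
    have h1 : Commute (g * v * g⁻¹) r := by
      have h := (Commute.conj_iff g).2 hvr
      rwa [show g * r * g⁻¹ = r by rw [hg.eq, mul_inv_cancel_right]] at h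
    have h2 : Commute (g * v * g⁻¹) (g * a * g⁻¹) := (Commute.conj_iff g).2 hva
    have ea : a = (r ^ n)⁻¹ * (g * a * g⁻¹) := by rw [hn]; group
    rw [ea]
    exact ((h1.zpow_right n).inv_right.mul_right h2).eq

theorem cent_conj {g p r : A3} (hg : g.det = .o) (hp : p.det = .o) (hr : r.det = .o)
    (h : g * p = r * g) (hC : centralizer ({S.el r} : Set G) ≤ S.iota.range) :
    centralizer ({S.el p} : Set G) ≤ S.iota.range := by
  intro c hc
  have h1 := mem_centralizer_singleton_iff.1 hc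
  have h2 : S.el g * c * (S.el g)⁻¹ ∈ centralizer ({S.el r} : Set G) := by
    refine mem_centralizer_singleton_iff.2 ?_
    rw [S.el_conj hg hp hr h]
    calc S.el g * c * (S.el g)⁻¹ * (S.el g * S.el p * (S.el g)⁻¹)
        = S.el g * (c * S.el p) * (S.el g)⁻¹ := by group
      _ = _ := by rw [h1]; group
  have := mul_mem (mul_mem (inv_mem (S.el_mem g)) (hC h2)) (S.el_mem g)
  rwa [show (S.el g)⁻¹ * (S.el g * c * (S.el g)⁻¹) * S.el g = c by group] at this

theorem cent_X (s : Bool) : centralizer ({S.el (CaseA.rX s)} : Set G) ≤ S.iota.range := by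
  classical
  have hrd := CaseA.rX_det s
  set r := S.el (CaseA.rX s) with hr
  set X := centralizer ({r} : Set G) with hX
  have hr3 : CaseA.rX s * CaseA.rX s * CaseA.rX s = 1 :=
    (by decide +kernel : ∀ s, CaseA.rX s * CaseA.rX s * CaseA.rX s = 1) s
  set xX : X := ⟨r, mem_centralizer_singleton_iff.2 rfl⟩ with hxX
  haveI hn : (zpowers xX).Normal := ⟨fun n hn g => by
    obtain ⟨i, rfl⟩ := mem_zpowers_iff.1 hn
    have hc : Commute g xX := Subtype.ext (mem_centralizer_singleton_iff.1 g.2)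
    rw [(hc.zpow_right i).eq, mul_inv_cancel_right]
    exact zpow_mem (mem_zpowers _) i⟩
  set π := QuotientGroup.mk' (zpowers xX) with hπ
  have hzp : ∀ {a : X}, a ∈ zpowers xX ↔ (a : G) ∈ zpowers r := by
    intro a
    rw [mem_zpowers_iff, mem_zpowers_iff]
    exact ⟨fun ⟨i, h⟩ => ⟨i, by rw [← h]; rfl⟩, fun ⟨i, h⟩ => ⟨i, Subtype.ext h⟩⟩
  have hmem : ∀ m, S.el (CaseA.lift s m) ∈ X := fun m => mem_centralizer_singleton_iff.2
    ((S.el_comm (CaseA.lift_ok s m).1 hrd).2 (CaseA.lift_ok s m).2).eq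
  set φ : M162 → X ⧸ zpowers xX := fun m => π ⟨_, hmem m⟩ with hφ
  have hone : φ 1 = 1 := by
    show π ⟨_, hmem 1⟩ = 1
    rw [show (⟨_, hmem 1⟩ : X) = 1 from Subtype.ext (by
      show S.el (CaseA.lift s 1) = 1
      rw [CaseA.lift_one, S.el_one]), map_one]
  have hstep : ∀ m, ∀ g ∈ [CaseA.mA, CaseA.mK, CaseA.mS], φ (m * g) = φ m * φ g := by
    intro m g hg
    obtain ⟨j, hj, e⟩ := CaseA.lift_step s m g hg
    rw [hφ]
    simp only
    rw [← map_mul]
    refine (QuotientGroup.eq.2 (hzp.2 ?_))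
    show (S.el (CaseA.lift s (m * g)))⁻¹ * (S.el (CaseA.lift s m) * S.el (CaseA.lift s g)) ∈ zpowers r
    rw [← S.el_mul (CaseA.lift_ok s m).1 (CaseA.lift_ok s g).1, e,
      S.el_mul (CaseA.lift_ok s _).1 (CaseA.rPows_det s j hj), inv_mul_cancel_left]
    exact S.el_pows hrd hj
  have hmul : ∀ n m, φ (m * n) = φ m * φ n := by
    have hg : ∀ g ∈ [CaseA.mA, CaseA.mK, CaseA.mS], ∀ m, φ (m * g) = φ m * φ g :=
      fun g hg m => hstep m g hg
    have hc : ∀ a b : M162, (∀ m, φ (m * a) = φ m * φ a) → (∀ m, φ (m * b) = φ m * φ b) →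
        ∀ m, φ (m * (a * b)) = φ m * φ (a * b) := fun a b ha hb m => by
      rw [← mul_assoc, hb, ha, hb a, mul_assoc]
    have h1 : ∀ m, φ (m * 1) = φ m * φ 1 := fun m => by rw [mul_one, hone, mul_one]
    have hA := hg CaseA.mA (by simp)
    have hK := hg CaseA.mK (by simp)
    have hS := hg CaseA.mS (by simp)
    have hp : ∀ g : M162, (∀ m, φ (m * g) = φ m * φ g) → ∀ k, ∀ m,
        φ (m * CaseA.pz g k) = φ m * φ (CaseA.pz g k) := fun g h k => by
      cases k
      · exact h1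
      · exact h
      · exact hc g g h h
    have hb : ∀ b, ∀ m, φ (m * CaseA.pb CaseA.mS b) = φ m * φ (CaseA.pb CaseA.mS b) := fun b => by
      cases b
      · exact h1
      · exact hS
    intro n
    rw [← CaseA.word_eq n]
    exact hc _ _ (hc _ _ (hc _ _ (hc _ _ (hp _ hA _) (hp _ (hc _ _ (hc _ _ hK hA) (hc _ _ hK hK)) _))
      (hp _ (hc _ _ (hc _ _ (hc _ _ hK hK) hA) hK) _)) (hp _ hK _)) (hb _)
  let Φ : M162 →* X ⧸ zpowers xX := MonoidHom.mk' φ fun a b => hmul b a
  have hinj : Function.Injective Φ := by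
    rw [injective_iff_map_eq_one]
    intro m hm
    have h1 : S.el (CaseA.lift s m) ∈ zpowers r := hzp.1 ((QuotientGroup.eq_one_iff _).1 hm)
    obtain ⟨j, hj, e⟩ := S.pows_el hrd hr3 h1
    refine CaseA.lift_inj s m ?_
    rw [← S.el_inj (CaseA.rPows_det s j hj) (CaseA.lift_ok s m).1 e]
    exact hj
  -- the image is the intersection with the affine group
  have hsur : ∀ g : X, (g : G) ∈ S.iota.range → π g ∈ Φ.range := by
    intro g hg
    obtain ⟨c, d, e, f, x, y, w, hdet, hcm, hel⟩ :=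
      S.exists_sh (r := CaseA.rX s) rfl hrd hg (mem_centralizer_singleton_iff.1 g.2)
    obtain ⟨j, hj, ej⟩ := CaseA.coord_ok s c d e f x y w hdet hcm
    refine ⟨CaseA.coord s (CaseA.sh c d e f x y w), QuotientGroup.eq.2 (hzp.2 ?_)⟩
    show (S.el (CaseA.lift s _))⁻¹ * (g : G) ∈ zpowers r
    rw [← hel]
    conv in (S.el (CaseA.sh c d e f x y w)) => rw [← ej]
    rw [S.el_mul (CaseA.lift_ok s _).1 (CaseA.rPows_det s j hj), inv_mul_cancel_left]
    exact S.el_pows hrd hj
  have hrep : ∀ m ∈ CaseA.mReps, centralizer ({Φ m} : Set (X ⧸ zpowers xX)) ≤ Φ.range := by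
    intro m hm q hq
    obtain ⟨g, rfl⟩ := QuotientGroup.mk'_surjective (zpowers xX) q
    refine hsur g ?_
    have hld := (CaseA.lift_ok s m).1
    have hv1 : S.el (tr .z .o .z) ≠ 1 := fun h =>
      absurd (S.el_inj rfl rfl (h.trans S.el_one.symm)) (by decide +kernel)
    refine S.move_mem (r := r) (a := S.el (CaseA.lift s m)) (v := S.el (tr .z .o .z)) ?_
      (S.el_tr_mem .z .o .z) hv1 ((S.el_comm rfl hrd).2 (CaseA.fix_rX s .z .o))
      ((S.el_comm rfl hld).2 (CaseA.mReps_fix s m hm)) (mem_centralizer_singleton_iff.1 g.2) ?_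
    · rcases CaseA.reps_split s m hm with h | ⟨hgd, h⟩ | ⟨j, hj, x, y, w, e, hne⟩
      · exact S.cent_pair rfl hrd hld
          (fun x y => ⟨CaseA.fix_rX s x y, CaseA.pair_plane s m h x y⟩) (CaseA.pair_ok s m h)
      · rintro c ⟨hc1, hc2⟩
        refine S.cent_conj hgd (A3.det_mul hld hrd) (by decide +kernel) h S.cent_Y ?_
        refine mem_centralizer_singleton_iff.2 ?_
        rw [S.el_mul hld hrd]
        exact ((show Commute c (S.el (CaseA.lift s m)) from mem_centralizer_singleton_iff.1 hc2).mul_right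
          (mem_centralizer_singleton_iff.1 hc1)).eq
      · rintro c ⟨hc1, hc2⟩
        refine S.cent_tr hne (mem_centralizer_singleton_iff.2 ?_)
        rw [← e, S.el_mul hld (CaseA.rPows_det s j hj)]
        obtain ⟨i, hi⟩ := mem_zpowers_iff.1 (S.el_pows hrd hj)
        rw [← hi]
        exact ((show Commute c (S.el (CaseA.lift s m)) from mem_centralizer_singleton_iff.1 hc2).mul_right
          ((show Commute c r from mem_centralizer_singleton_iff.1 hc1).zpow_right i)).eq
    · have h := mem_centralizer_singleton_iff.1 hq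
      have h2 : π (g * ⟨_, hmem m⟩ * g⁻¹ * (⟨_, hmem m⟩ : X)⁻¹) = 1 := by
        rw [map_mul, map_mul, map_mul, map_inv, map_inv]
        change π g * Φ m * (π g)⁻¹ * (Φ m)⁻¹ = 1
        rw [show π g * Φ m = Φ m * π g from h]
        group
      exact hzp.1 ((QuotientGroup.eq_one_iff _).1 h2)
  have htop : Φ.range = ⊤ := by
    refine WreathChar.eq_top hinj fun m hm q hq => ?_
    obtain ⟨p, r', hr', e⟩ := CaseA.mReps_ok m
      (by rw [← pow_three', ← hm]; exact pow_orderOf_eq_one m)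
      (fun h => by rw [h, orderOf_one] at hm; omega)
    have e' : Φ r' = Φ p * Φ m * (Φ p)⁻¹ := by rw [← map_mul, e, map_mul, mul_inv_cancel_right]
    have h2 : Φ p * q * (Φ p)⁻¹ ∈ centralizer ({Φ r'} : Set (X ⧸ zpowers xX)) := by
      refine mem_centralizer_singleton_iff.2 ?_
      rw [e']
      calc Φ p * q * (Φ p)⁻¹ * (Φ p * Φ m * (Φ p)⁻¹) = Φ p * (q * Φ m) * (Φ p)⁻¹ := by group
        _ = _ := by rw [mem_centralizer_singleton_iff.1 hq]; group
    have h3 := mul_mem (mul_mem (inv_mem (show Φ p ∈ Φ.range from ⟨p, rfl⟩)) (hrep r' hr' h2))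
      (show Φ p ∈ Φ.range from ⟨p, rfl⟩)
    rwa [show (Φ p)⁻¹ * (Φ p * q * (Φ p)⁻¹) * Φ p = q by group] at h3
  intro g hg
  obtain ⟨m, hm⟩ := (htop ▸ mem_top (π ⟨g, hg⟩) : π ⟨g, hg⟩ ∈ Φ.range)
  obtain ⟨i, hi⟩ := mem_zpowers_iff.1 (hzp.1 (QuotientGroup.eq.1 hm))
  have hgeq : g = S.el (CaseA.lift s m) * r ^ i := by
    rw [hi]
    show g = S.el (CaseA.lift s m) * ((S.el (CaseA.lift s m))⁻¹ * g)
    group
  rw [hgeq]
  exact mul_mem (S.el_mem _) (zpow_mem (S.el_mem _) i)

theorem cent_Xp : centralizer ({S.el CaseA.rXp} : Set G) ≤ S.iota.range :=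
  CaseA.rX_eq.1 ▸ S.cent_X false

theorem cent_Xm : centralizer ({S.el CaseA.rXm} : Set G) ≤ S.iota.range :=
  CaseA.rX_eq.2 ▸ S.cent_X true

end SetA

end Cfsg.Agent.L43Three
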