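import Cfsg.Agent.Lib.L43Three.CaseA.CentU
import Cfsg.Agent.Lib.L43Three.CaseA.CentX
import Cfsg.Agent.Lib.Techniques.PConstrained

/-!
S3373, case A: the centraliser of the involution `diag(1,-1,-1)` lies in the affine group.
-/

set_option autoImplicit false
set_option linter.style.haveILetI false
set_option linter.unusedSectionVars false
set_option maxRecDepth 20000
set_option synthInstance.maxSize 2000
set_option maxHeartbeats 1000000
set_option linter.constructorNameAsVariable false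

namespace Cfsg.Agent.L43Three

open Subgroup
open WreathChar (Z3)
open A3 (tr upper fix1 qel Z0 eA)

universe u

namespace CaseA

/-- The elements of the Sylow 3-subgroup of the centraliser of the involution. -/
def nine (f x : Z3) : A3 := sh .z .z .o f x .z .z

/-- A block element with a translation fixed by the involution. -/
def blk (a e f h i x : Z3) : A3 := ⟨a, .z, .z, .z, e, f, .z, h, i, x, .z, .z⟩

/-- The element inverting the nine. -/
def nT : A3 := blk .d .o .z .z .d .z

theorem nine_facts : ∀ f x : Z3, (nine f x).det = .o ∧ nine f x * tU = tU * nine f x ∧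
    nine f x * nine f x * nine f x = 1 := by decide +kernel

theorem nine_mul : ∀ f x f' x' : Z3,
    nine f x * nine f' x' = nine (Z3.add f f') (Z3.add x x') ∧
      nine f x * nine (Z3.neg f) (Z3.neg x) = 1 := by decide +kernel

theorem nine_cases : ∀ f x : Z3, nine f x = tr x .z .z ∨ (∃ r ∈ [rU, rXp, rXm],
    nine f x = r ∨ nine f x = r * r) := by decide +kernel

theorem tU_lin : ∀ a b c d e f g h i : Z3,
    (⟨a, b, c, d, e, f, g, h, i, .z, .z, .z⟩ : A3).det = .o →
    lin (⟨a, b, c, d, e, f, g, h, i, .z, .z, .z⟩ * tU) =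
      lin (tU * ⟨a, b, c, d, e, f, g, h, i, .z, .z, .z⟩) →
    b = .z ∧ c = .z ∧ d = .z ∧ g = .z := by decide +kernel

theorem tU_fix : ∀ d e f x y w : Z3,
    (y.add (((Z3.mul d .z).add (Z3.mul e .z)).add (Z3.mul f .z)) =
      Z3.z.add (((Z3.mul .z x).add (Z3.mul .d y)).add (Z3.mul .z w)) → y = .z) ∧
    (w.add (((Z3.mul d .z).add (Z3.mul e .z)).add (Z3.mul f .z)) =
      Z3.z.add (((Z3.mul .z x).add (Z3.mul .z y)).add (Z3.mul .d w)) → w = .z) := by decide +kernel

/-- The shape of the centraliser of the involution. -/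
theorem eq_blk {p : A3} (hp : p.det = .o) (h : p * tU = tU * p) :
    p = blk p.a p.e p.f p.h p.i p.x := by
  have e1 := congrArg lin h
  rw [lin_mul, lin_mul tU, show lin tU = tU from rfl] at e1
  obtain ⟨hb, hc, hd, hg⟩ :=
    tU_lin p.a p.b p.c p.d p.e p.f p.g p.h p.i ((lin_det p).trans hp) e1
  have hy := (tU_fix p.d p.e p.f p.x p.y p.w).1 (congrArg A3.y h)
  have hw := (tU_fix p.g p.h p.i p.x p.y p.w).2 (congrArg A3.w h)
  cases p
  simp only [blk] at *
  subst hb hc hd hg hy hw
  rfl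

theorem blk_norm : ∀ a e f h i x : Z3, (blk a e f h i x).det = .o →
    (∀ F X : Z3, blk a e f h i x * nine .o .z = nine F X * blk a e f h i x → h = .z) := by
  decide +kernel

theorem blk_act : ∀ a e f i x : Z3, (blk a e f .z i x).det = .o → ∀ F X : Z3,
    blk a e f .z i x * nine F X = nine (Z3.mul a F) (Z3.mul a X) * blk a e f .z i x := by
  decide +kernel

theorem blk_sq : ∀ a e f i x : Z3, (blk a e f .z i x).det = .o →
    ∃ F X : Z3, blk a e f .z i x * blk a e f .z i x = nine F X := by decide +kernel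

theorem nT_facts : nT.det = .o ∧ nT * tU = tU * nT := by decide +kernel

theorem nT_act : ∀ F X : Z3, nT * nine F X = nine (Z3.neg F) (Z3.neg X) * nT := by decide +kernel

theorem mul_cases : ∀ a : Z3, (∀ F : Z3, Z3.mul a F = F) ∨ (∀ F : Z3, Z3.mul a F = Z3.neg F) ∨
    a = .z := by decide +kernel

theorem blk_a : ∀ e f h i x : Z3, (blk .z e f h i x).det ≠ .o := by decide +kernel

end CaseA

namespace SetA

variable {G : Type u} [Group G] [Finite G] (S : SetA G)
include S

theorem nine_inv (f x : Z3) :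
    (S.el (CaseA.nine f x))⁻¹ = S.el (CaseA.nine (Z3.neg f) (Z3.neg x)) :=
  (eq_inv_of_mul_eq_one_right (by
    rw [← S.el_mul (CaseA.nine_facts ..).1 (CaseA.nine_facts ..).1,
      (CaseA.nine_mul f x f x).2, S.el_one])).symm

/-- The Sylow 3-subgroup of the centraliser of the involution. -/
def nineG : Subgroup G where
  carrier := {g | ∃ f x : Z3, S.el (CaseA.nine f x) = g}
  one_mem' := ⟨.z, .z, S.el_one⟩
  mul_mem' := by
    rintro _ _ ⟨f, x, rfl⟩ ⟨f', x', rfl⟩
    exact ⟨_, _, by rw [← (CaseA.nine_mul f x f' x').1,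
      S.el_mul (CaseA.nine_facts ..).1 (CaseA.nine_facts ..).1]⟩
  inv_mem' := by
    rintro _ ⟨f, x, rfl⟩
    exact ⟨_, _, (S.nine_inv f x).symm⟩

theorem cent_nine {a : G} (ha : a ∈ S.nineG) (h1 : a ≠ 1) :
    centralizer ({a} : Set G) ≤ S.iota.range := by
  obtain ⟨f, x, rfl⟩ := ha
  rcases CaseA.nine_cases f x with e | ⟨r, hr, e⟩
  · rw [e]
    exact S.cent_V (S.el_tr_mem _ _ _) (by rw [← e]; exact h1)
  · have hC : centralizer ({S.el r} : Set G) ≤ S.iota.range := by
      simp only [List.mem_cons, List.not_mem_nil, or_false] at hr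
      rcases hr with rfl | rfl | rfl
      · exact S.cent_U
      · exact S.cent_Xp
      · exact S.cent_Xm
    have hrd : r.det = .o :=
      (by decide +kernel : ∀ r ∈ [CaseA.rU, CaseA.rXp, CaseA.rXm], r.det = .o) r hr
    rcases e with e | e <;> rw [e]
    · exact hC
    · intro c hc
      refine hC (mem_centralizer_singleton_iff.2 ?_)
      have h2 : Commute c (S.el (r * r)) := mem_centralizer_singleton_iff.1 hc
      have h3 : S.el r = S.el (r * r) * S.el (r * r) := by
        have hcu : r * r * r = 1 := by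
          revert hr
          exact (by decide +kernel : ∀ r ∈ [CaseA.rU, CaseA.rXp, CaseA.rXm], r * r * r = 1) r
        have h3 := (S.el_pow_three hrd).2 hcu
        rw [S.el_mul hrd hrd]
        calc S.el r = S.el r ^ 3 * S.el r := by rw [h3, one_mul]
          _ = _ := by rw [pow_succ, pow_two]; group
      rw [h3]
      exact (h2.mul_right h2).eq

theorem nineG_exp {a : G} (ha : a ∈ S.nineG) : a ^ 3 = 1 := by
  obtain ⟨f, x, rfl⟩ := ha
  exact (S.el_pow_three (CaseA.nine_facts ..).1).2 (CaseA.nine_facts ..).2.2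

theorem nineG_comm {a b : G} (ha : a ∈ S.nineG) (hb : b ∈ S.nineG) : a * b = b * a := by
  obtain ⟨f, x, rfl⟩ := ha
  obtain ⟨f', x', rfl⟩ := hb
  refine ((S.el_comm (CaseA.nine_facts ..).1 (CaseA.nine_facts ..).1).2 ?_).eq
  rw [(CaseA.nine_mul f x f' x').1, (CaseA.nine_mul f' x' f x).1]
  have ac : ∀ u v : Z3, Z3.add u v = Z3.add v u := by decide
  rw [ac f, ac x]

theorem nineG_not_cyclic : ¬ IsCyclic S.nineG := by
  intro h
  obtain ⟨a, ha⟩ := h.exists_generator
  have h1 := orderOf_le_of_pow_eq_one (by norm_num)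
    (show a ^ 3 = 1 from Subtype.ext (S.nineG_exp a.2))
  rw [orderOf_eq_card_of_forall_mem_zpowers ha] at h1
  let f : Z3 × Z3 → S.nineG := fun p => ⟨S.el (CaseA.nine p.1 p.2), p.1, p.2, rfl⟩
  have hf : Function.Injective f := by
    rintro ⟨a, b⟩ ⟨a', b'⟩ h
    have e := S.el_inj (CaseA.nine_facts ..).1 (CaseA.nine_facts ..).1 (congrArg Subtype.val h)
    simp only [CaseA.nine, CaseA.sh, A3.mk.injEq] at e
    obtain ⟨-, -, -, -, -, rfl, -, -, -, rfl, -, -⟩ := e
    rfl
  have h9 := Nat.card_le_card_of_injective f hf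
  rw [Nat.card_prod, Nat.card_eq_fintype_card] at h9
  have : Fintype.card Z3 = 3 := by decide
  rw [this] at h9
  omega

theorem tU_det : CaseA.tU.det = .o := by decide +kernel

/-- The centraliser of the involution. -/
theorem cent_T : centralizer ({S.el CaseA.tU} : Set G) ≤ S.iota.range := by
  classical
  haveI : Fact (Nat.Prime 3) := ⟨Nat.prime_three⟩
  set X := centralizer ({S.el CaseA.tU} : Set G) with hX
  have hRX : S.nineG ≤ X := by
    rintro _ ⟨f, x, rfl⟩
    exact mem_centralizer_singleton_iff.2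
      ((S.el_comm (CaseA.nine_facts f x).1 S.tU_det).2 (CaseA.nine_facts f x).2.1).eq
  set R : Subgroup X := S.nineG.subgroupOf X with hR
  have hRp : IsPGroup 3 R := fun a => ⟨1, Subtype.ext (Subtype.ext (by simpa using S.nineG_exp a.2))⟩
  have hzR : S.z ∈ S.nineG := ⟨.z, .o, S.el_Z0⟩
  have hRle : S.nineG ≤ S.iota.range := by
    rintro _ ⟨f, x, rfl⟩
    exact S.el_mem _
  -- the shape of the normaliser of `R`
  have hN : ∀ g ∈ normalizer (R : Set X), ∃ a e f i x : Z3,
      (CaseA.blk a e f .z i x).det = .o ∧ S.el (CaseA.blk a e f .z i x) = (g : G) := by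
    intro g hg
    have hgr : (g : G) ∈ S.iota.range :=
      S.ti (S.cz_le (S.mem_Cz.2 rfl)) (IsConj.refl _)
        (hRle ((mem_normalizer_iff.1 hg ⟨S.z, hRX hzR⟩).1 hzR))
    obtain ⟨p, hp, hpe⟩ := S.exists_el hgr
    have hc : p * CaseA.tU = CaseA.tU * p :=
      (S.el_comm hp S.tU_det).1 (by rw [hpe]; exact mem_centralizer_singleton_iff.1 g.2)
    have hsh := CaseA.eq_blk hp hc
    have hu : S.el (CaseA.nine .o .z) ∈ S.nineG := ⟨_, _, rfl⟩
    obtain ⟨F, X', hFX⟩ := (mem_normalizer_iff.1 hg ⟨_, hRX hu⟩).1 hu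
    have hd : (CaseA.blk p.a p.e p.f p.h p.i p.x).det = .o := hsh ▸ hp
    have hh : p.h = .z := by
      refine CaseA.blk_norm _ _ _ _ _ _ hd F X' ?_
      rw [← hsh]
      refine S.el_inj (A3.det_mul hp (CaseA.nine_facts ..).1) (A3.det_mul (CaseA.nine_facts ..).1 hp) ?_
      rw [S.el_mul hp (CaseA.nine_facts ..).1, S.el_mul (CaseA.nine_facts ..).1 hp, hpe]
      replace hFX : S.el (CaseA.nine F X') =
          (g : G) * S.el (CaseA.nine .o .z) * (g : G)⁻¹ := hFX
      rw [hFX]
      group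
    rw [hh] at hsh hd
    exact ⟨_, _, _, _, _, hd, by rw [← hsh, hpe]⟩
  obtain ⟨P, hP⟩ := hRp.exists_le_sylow
  have hPR : (P : Subgroup X) = R := by
    refine (eq_of_le_of_not_lt hP fun hlt => ?_).symm
    haveI := P.isPGroup'.isNilpotent
    have hne : R.subgroupOf (P : Subgroup X) < ⊤ :=
      lt_top_iff_ne_top.2 fun h => hlt.not_ge (subgroupOf_eq_top.1 h)
    obtain ⟨g, hg, hgR⟩ := SetLike.exists_of_lt (Group.normalizerCondition_of_isNilpotent _ hne)
    have hgN : (g : X) ∈ normalizer (R : Set X) := by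
      rw [mem_normalizer_iff]
      intro n
      constructor
      · intro hn
        exact (mem_normalizer_iff.1 hg ⟨n, hP hn⟩).1 hn
      · intro hn
        have hnP : n ∈ (P : Subgroup X) := by
          have := mul_mem (mul_mem (inv_mem g.2) (hP hn)) g.2
          rwa [show ((g : X))⁻¹ * ((g : X) * n * (g : X)⁻¹) * g = n by group] at this
        exact (mem_normalizer_iff.1 hg ⟨n, hnP⟩).2 hn
    obtain ⟨a, e, f, i, x, hd, hel⟩ := hN _ hgN
    obtain ⟨F, X', hsq⟩ := CaseA.blk_sq a e f i x hd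
    have hgg : (g : X) * g ∈ R :=
      show ((g : X) : G) * (g : X) ∈ S.nineG from ⟨F, X', by rw [← hsq, S.el_mul hd hd, hel]⟩
    obtain ⟨k, hk⟩ := P.isPGroup' g
    obtain ⟨m, hm⟩ := (Odd.pow (by decide : Odd 3) : Odd (3 ^ k))
    have hk' : (g : X) ^ (3 ^ k) = 1 := by exact_mod_cast congrArg Subtype.val hk
    have : (g : X) = ((g : X) * g) ^ (m + 1) := by
      rw [← pow_two, ← pow_mul, show 2 * (m + 1) = 3 ^ k + 1 by omega, pow_succ, hk', one_mul]
    exact hgR (show (g : X) ∈ R from this ▸ pow_mem hgg _)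
  -- the core
  set O := Cfsg.pPrimeCore 3 X with hO
  haveI hOn : O.Normal := Cfsg.pPrimeCore_normal 3 X
  have hOco : (Nat.card O).Coprime 3 := PBasic.pPrimeCore_coprime 3 X
  have hOH : ∀ o ∈ O, (o : G) ∈ S.iota.range := by
    haveI : IsMulCommutative R := ⟨⟨fun a b =>
      Subtype.ext (Subtype.ext (S.nineG_comm a.2 b.2))⟩⟩
    have hnc : ¬ IsCyclic R := fun h =>
      S.nineG_not_cyclic (isCyclic_of_surjective (subgroupOfEquivOfLe hRX).toMonoidHom
        (subgroupOfEquivOfLe hRX).surjective)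
    have hnorm : R ≤ normalizer (O : Set X) := fun r _ => by
      rw [normalizer_eq_top_iff.2 hOn]; exact mem_top r
    have hcop : (Nat.card R).Coprime (Nat.card O) := by
      obtain ⟨k, hk⟩ := IsPGroup.iff_card.1 hRp
      rw [hk]
      exact hOco.symm.pow_left k
    have hgen := CoprimeAct.generated_by_centralizers (A := R) (K := O) hnc hnorm hcop
    have hle : O ≤ S.iota.range.subgroupOf X := by
      rw [← hgen]
      refine iSup₂_le fun a ha c hc => ?_
      exact S.cent_nine ha.1 (fun h => ha.2 (Subtype.ext h))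
        (mem_centralizer_singleton_iff.2 (congrArg Subtype.val (mem_centralizer_singleton_iff.1 hc.2)))
    exact fun o ho => hle ho
  set π := QuotientGroup.mk' O with hπ
  have hπs : Function.Surjective π := QuotientGroup.mk'_surjective O
  haveI : Fintype (X ⧸ O) := Fintype.ofFinite _
  let Q' : Sylow 3 (X ⧸ O) := P.mapSurjective hπs
  have hQ' : (Q' : Subgroup (X ⧸ O)) = (P : Subgroup X).map π := rfl
  have hker : (Nat.card π.ker).Coprime 3 := by rw [hπ, QuotientGroup.ker_mk']; exact hOco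
  have hinjP : ∀ a ∈ R, π a = 1 → a = 1 := fun a ha h =>
    PBasic.eq_one_of_isPGroup_of_coprime hRp ha
      (hker.coprime_dvd_left (π.ker.orderOf_dvd_natCard h))
  have hnX : S.el CaseA.nT ∈ X := mem_centralizer_singleton_iff.2
    ((S.el_comm CaseA.nT_facts.1 S.tU_det).2 CaseA.nT_facts.2).eq
  set n : X := ⟨_, hnX⟩ with hn
  have hninv : ∀ a ∈ R, n * a * n⁻¹ = a⁻¹ := by
    intro a ha
    obtain ⟨f, x, e⟩ := (ha : (a : G) ∈ S.nineG)
    replace e : S.el (CaseA.nine f x) = (a : G) := e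
    refine Subtype.ext ?_
    push_cast
    rw [← e, S.nine_inv, hn]
    exact ((S.el_conj CaseA.nT_facts.1 (CaseA.nine_facts ..).1 (CaseA.nine_facts ..).1
      (CaseA.nT_act f x))).symm
  have hcases : ∀ g ∈ normalizer (R : Set X),
      (∀ a ∈ R, g * a * g⁻¹ = a) ∨ ∀ a ∈ R, g * a * g⁻¹ = a⁻¹ := by
    intro g hg
    obtain ⟨a, e, f, i, x, hd, hel⟩ := hN g hg
    have act : ∀ F X' : Z3, (g : G) * S.el (CaseA.nine F X') * (g : G)⁻¹ =
        S.el (CaseA.nine (Z3.mul a F) (Z3.mul a X')) := fun F X' => by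
      rw [← hel]
      exact (S.el_conj hd (CaseA.nine_facts ..).1 (CaseA.nine_facts ..).1
        (CaseA.blk_act a e f i x hd F X')).symm
    rcases CaseA.mul_cases a with h | h | rfl
    · left
      intro b hb
      obtain ⟨F, X', eb⟩ := (hb : (b : G) ∈ S.nineG)
      replace eb : S.el (CaseA.nine F X') = (b : G) := eb
      refine Subtype.ext ?_
      push_cast
      rw [← eb, act, h, h]
    · right
      intro b hb
      obtain ⟨F, X', eb⟩ := (hb : (b : G) ∈ S.nineG)
      replace eb : S.el (CaseA.nine F X') = (b : G) := eb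
      refine Subtype.ext ?_
      push_cast
      rw [← eb, act, h, h, S.nine_inv]
    · exact (CaseA.blk_a e f .z i x hd).elim
  have hI : SmithTyrer.Inverted Q' (π n) := by
    refine ⟨by norm_num, ⟨⟨?_⟩⟩, ?_, ?_, ?_⟩
    · rintro ⟨_, a, ha, rfl⟩ ⟨_, b, hb, rfl⟩
      refine Subtype.ext (show π a * π b = π b * π a from ?_)
      rw [← map_mul, ← map_mul, show a * b = b * a from
        Subtype.ext (S.nineG_comm (hPR ▸ ha : a ∈ R) (hPR ▸ hb : b ∈ R))]
    · refine mem_normalizer_fintype ?_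
      rintro _ ⟨a, ha, rfl⟩
      rw [← map_inv, ← map_mul, ← map_mul, hninv a (hPR ▸ ha : a ∈ R)]
      exact mem_map_of_mem π (inv_mem ha)
    · rintro _ ⟨a, ha, rfl⟩
      rw [← map_inv, ← map_inv, ← map_mul, ← map_mul, hninv a (hPR ▸ ha : a ∈ R)]
    · intro y hy
      rw [hQ', ← PConstr.map_normalizer_eq π hπs hker P.isPGroup'] at hy
      obtain ⟨g, hg, rfl⟩ := hy
      rw [hPR] at hg
      rcases hcases g hg with h | h
      · left
        rintro _ ⟨a, ha, rfl⟩
        rw [← map_inv, ← map_mul, ← map_mul, h a (hPR ▸ ha : a ∈ R)]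
      · right
        rintro _ ⟨a, ha, rfl⟩
        rw [← map_inv, ← map_inv, ← map_mul, ← map_mul, h a (hPR ▸ ha : a ∈ R)]
  have hnc : ¬ IsCyclic (Q' : Subgroup (X ⧸ O)) := by
    intro h
    let φ : S.nineG →* (Q' : Subgroup (X ⧸ O)) :=
      (π.comp (Subgroup.inclusion hRX)).codRestrict _ fun a =>
        mem_map_of_mem π (show Subgroup.inclusion hRX a ∈ (P : Subgroup X) from hP a.2)
    refine S.nineG_not_cyclic (isCyclic_of_injective φ ((injective_iff_map_eq_one φ).2 fun a ha => ?_))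
    have := hinjP (Subgroup.inclusion hRX a) a.2 (congrArg Subtype.val ha)
    exact Subtype.ext (congrArg (fun b : X => (b : G)) this :)
  have hcoreq := PBasic.pPrimeCore_quotient_pPrimeCore 3 X
  have hQn' : (Q' : Subgroup (X ⧸ O)).Normal :=
    A9Three.sylow_normal_of_pLength_one (SmithTyrer.pLength_one hI hnc hcoreq) hcoreq Q'
  -- conclusion
  intro g hg
  set zX : X := ⟨S.z, hRX hzR⟩ with hzX
  have h1 : π (⟨g, hg⟩ * zX * (⟨g, hg⟩ : X)⁻¹) ∈ (Q' : Subgroup (X ⧸ O)) := by
    rw [map_mul, map_mul, map_inv]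
    exact hQn'.conj_mem _ (mem_map_of_mem π (hP (show zX ∈ R from hzR))) _
  obtain ⟨a, ha, he⟩ := h1
  have h2 := QuotientGroup.eq.1 he
  refine S.ti (S.cz_le (S.mem_Cz.2 rfl)) (IsConj.refl _) (show g * S.z * g⁻¹ ∈ S.iota.range from ?_)
  have h3 := mul_mem (hRle (hPR ▸ ha : a ∈ R)) (hOH _ h2)
  push_cast at h3
  rwa [show X.subtype a * ((a : G)⁻¹ * (g * (zX : G) * g⁻¹)) = g * S.z * g⁻¹ by
    show (a : G) * ((a : G)⁻¹ * (g * S.z * g⁻¹)) = _
    group] at h3

end SetA

end Cfsg.Agent.L43Three
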