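import Cfsg.Agent.Lib.L43Three.CaseA.CentY
import Cfsg.Agent.Lib.SmithTyrer.Main
import Cfsg.Agent.Lib.A9Three.CentB
import Cfsg.Agent.Lib.Transfer.Abelian

/-!
S3373, case A: the centraliser of the transvection representative lies in the affine group.
-/

set_option autoImplicit false
set_option linter.style.haveILetI false
set_option linter.unusedSectionVars false
set_option maxRecDepth 20000
set_option synthInstance.maxSize 2000
set_option maxHeartbeats 1000000
set_option linter.constructorNameAsVariable false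

namespace Cfsg.Agent.L43Three

open Subgroup
open scoped commutatorElement
open WreathChar (Z3)
open A3 (tr upper fix1 qel Z0 eA)

universe u

namespace CaseA

/-- A central subgroup of order three does not create a 3′-core in the quotient. -/
theorem core_quotient {K : Type u} [Group K] [Finite K] (N : Subgroup K) [N.Normal]
    (hN : Nat.card N = 3) (hc : ∀ n ∈ N, ∀ g : K, g * n = n * g)
    (hcore : Cfsg.pPrimeCore 3 K = ⊥) : Cfsg.pPrimeCore 3 (K ⧸ N) = ⊥ := by
  haveI : Fact (Nat.Prime 3) := ⟨Nat.prime_three⟩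
  set f := QuotientGroup.mk' N with hf
  set L := (Cfsg.pPrimeCore 3 (K ⧸ N)).comap f with hL
  haveI : L.Normal := (Cfsg.pPrimeCore_normal 3 (K ⧸ N)).comap f
  have hNL : N ≤ L := fun n hn => by
    rw [hL, mem_comap, hf, QuotientGroup.mk'_apply, (QuotientGroup.eq_one_iff n).2 hn]
    exact one_mem _
  have hmap : L.map f = Cfsg.pPrimeCore 3 (K ⧸ N) :=
    map_comap_eq_self_of_surjective (QuotientGroup.mk'_surjective N) _
  have hidx : (N.subgroupOf L).index = Nat.card (Cfsg.pPrimeCore 3 (K ⧸ N)) := by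
    rw [← hmap, ← relIndex_ker, hf, QuotientGroup.ker_mk', relIndex]
  have hp : IsPGroup 3 (N.subgroupOf L) :=
    IsPGroup.of_card (n := 1) (by
      rw [Nat.card_congr (subgroupOfEquivOfLe hNL).toEquiv, hN, pow_one])
  let P : Sylow 3 L := hp.toSylow (by
    rw [hidx]
    exact (Nat.Prime.coprime_iff_not_dvd Nat.prime_three).1 (PBasic.pPrimeCore_coprime 3 _).symm)
  have hP : (P : Subgroup L) = N.subgroupOf L := rfl
  have hcomm : IsMulCommutative (P : Subgroup L) := by
    rw [hP]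
    exact ⟨⟨fun a b => Subtype.ext (Subtype.ext (hc _ b.2 _))⟩⟩
  have hnpc : Cfsg.HasNormalPComplement 3 L := by
    refine AbelianSylow.hasNormalPComplement_of_abelian P hcomm fun g _ _ => ?_
    rw [mem_centralizer_iff]
    intro a ha
    exact Subtype.ext (hc _ ha _).symm
  have hcoreL : Cfsg.pPrimeCore 3 L = ⊥ := by
    have h := PBasic.map_pPrimeCore_le_of_normal (p := 3) L
    rw [hcore, le_bot_iff, map_eq_bot_iff_of_injective _ L.subtype_injective] at h
    exact h
  have hLp : IsPGroup 3 L := IsoRankTwo.isPGroup_of_npc hcoreL hnpc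
  have h3 : IsPGroup 3 (L.map f) := hLp.map f
  rw [hmap] at h3
  obtain ⟨k, hk⟩ := IsPGroup.iff_card.1 h3
  have hco := PBasic.pPrimeCore_coprime 3 (K ⧸ N)
  rcases k with _ | k
  · exact card_eq_one.1 (by simpa using hk)
  · rw [hk] at hco
    exact absurd (Nat.Coprime.eq_one_of_dvd hco.symm (dvd_pow_self 3 k.succ_ne_zero)) (by norm_num)

theorem u_facts : lin rU = rU ∧ ∀ c d e f x y w : Z3, (sh c d e f x y w).det = .o →
    sh c d e f x y w * rU = rU * sh c d e f x y w → w = .z := by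
  refine ⟨rfl, ?_⟩
  decide +kernel

theorem u_plane : ∀ x y : Z3, tr x y .z * rU = rU * tr x y .z := by decide +kernel

theorem u_mem : ∀ c d e f x y : Z3,
    (sh c d e f x y .z).det = .o → sh c d e f x y .z * rU = rU * sh c d e f x y .z := by decide +kernel

theorem u_mul : ∀ c d e f x y c' d' e' f' x' y' : Z3, ∃ C D F Y : Z3,
    sh c d e f x y .z * sh c' d' e' f' x' y' .z =
      sh C D (Z3.mul e e') F (Z3.add x x') Y .z := by
  intro c d e f x y c' d' e' f' x' y'
  have hz : ∀ v : Z3, Z3.mul .z v = .z := fun _ => rfl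
  have hz' : ∀ v : Z3, Z3.mul v .z = .z := by decide
  have ho : ∀ v : Z3, Z3.mul v .o = v := by decide
  have ho' : ∀ v : Z3, Z3.mul .o v = v := fun _ => rfl
  have az : ∀ v : Z3, Z3.add v .z = v := by decide
  have za : ∀ v : Z3, Z3.add .z v = v := by decide
  exact ⟨_, _, _, _, by
    show A3.mul _ _ = _
    simp only [A3.mul, sh, hz, hz', ho, ho', az, za]
    rfl⟩

theorem u_o : ∀ e e' : Z3, (e = .o → e' = .o → Z3.mul e e' = .o) ∧
    (Z3.mul e e' ≠ .z → Z3.mul e e' = Z3.mul e' e → ∀ e'', Z3.mul e'' (Z3.mul e' e) = Z3.mul e e' →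
      e'' = .o) := by decide +kernel

theorem u_add : ∀ x x' k : Z3, (x = .z → x' = .z → Z3.add x x' = .z) ∧
    (Z3.add k (Z3.add x' x) = Z3.add x x' → k = .z) ∧ (Z3.add x x = .z → x = .z) := by decide +kernel

theorem u_sq : ∀ e : Z3, e ≠ .z → Z3.mul e e = .o := by decide +kernel

theorem u_det : ∀ c d e f x y : Z3, (sh c d e f x y .z).det = .o ↔ e ≠ .z := by decide +kernel

theorem u_cube : ∀ c d f x y : Z3,
    sh c d .o f x y .z * sh c d .o f x y .z * sh c d .o f x y .z = 1 := by decide +kernel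

theorem u_cdx : ∀ c d c' d' C D : Z3,
    (Z3.add C (Z3.add c c') = Z3.add c c' → C = .z) ∧
      (Z3.add D (Z3.add d d') = Z3.add d d' → D = .z) := by decide +kernel

theorem u_mul_o : ∀ c d f x y c' d' f' x' y' : Z3, ∃ F Y : Z3,
    sh c d .o f x y .z * sh c' d' .o f' x' y' .z =
      sh (Z3.add c c') (Z3.add d d') .o F (Z3.add x x') Y .z := by
  intro c d f x y c' d' f' x' y'
  have hz : ∀ v : Z3, Z3.mul .z v = .z := fun _ => rfl
  have hz' : ∀ v : Z3, Z3.mul v .z = .z := by decide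
  have ho : ∀ v : Z3, Z3.mul v .o = v := by decide
  have ho' : ∀ v : Z3, Z3.mul .o v = v := fun _ => rfl
  have az : ∀ v : Z3, Z3.add v .z = v := by decide
  have za : ∀ v : Z3, Z3.add .z v = v := by decide
  have ac : ∀ v v' : Z3, Z3.add v v' = Z3.add v' v := by decide
  exact ⟨_, _, by
    show A3.mul _ _ = _
    simp only [A3.mul, sh, hz, hz', ho, ho', az, za, ac c c']
    rfl⟩

theorem u_central : ∀ F Y c d f x y : Z3,
    sh .z .z .o F .z Y .z * sh c d .o f x y .z = sh c d .o f x y .z * sh .z .z .o F .z Y .z := by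
  decide +kernel

/-- The involution inverting the quotient. -/
def tU : A3 := sh .z .z .d .z .z .z .z

theorem u_invert : ∀ c d f y : Z3, ∃ j : Z3,
    tU * sh c d .o f .z y .z * tU * sh c d .o f .z y .z = sh .z .z .o j .z .z .z := by decide +kernel

theorem u_abelian : ∀ c d f y c' d' f' y' : Z3, ∃ j : Z3,
    sh c d .o f .z y .z * sh c' d' .o f' .z y' .z =
      sh .z .z .o j .z .z .z * (sh c' d' .o f' .z y' .z * sh c d .o f .z y .z) := by decide +kernel

theorem u_powers : ∀ j : Z3, sh .z .z .o j .z .z .z = 1 ∨ sh .z .z .o j .z .z .z = rU ∨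
    sh .z .z .o j .z .z .z = rU * rU := by decide +kernel

theorem u_half : ∀ c d e f y : Z3, e ≠ .z →
    ∃ c' d' f' y' : Z3, sh c d e f .z y .z = sh c' d' .o f' .z y' .z ∨
      sh c d e f .z y .z = sh c' d' .o f' .z y' .z * tU := by decide +kernel

theorem u_tt : tU * tU = 1 := by decide +kernel

end CaseA

namespace SetA

variable {G : Type u} [Group G] [Finite G] (S : SetA G)
include S

/-- The subgroup of the affine group centralising `rU` with prescribed `e` and `x`. -/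
def uGroup (pe : Z3 → Prop) (px : Z3 → Prop) (he : ∀ e e', pe e → pe e' → pe (Z3.mul e e'))
    (he1 : pe .o) (hx : ∀ x x', px x → px x' → px (Z3.add x x')) (hx1 : px .z) : Subgroup G where
  carrier := {g | ∃ c d e f x y : Z3, e ≠ .z ∧ pe e ∧ px x ∧ S.el (CaseA.sh c d e f x y .z) = g}
  one_mem' := ⟨.z, .z, .o, .z, .z, .z, by decide, he1, hx1, S.el_one⟩
  mul_mem' := by
    rintro _ _ ⟨c, d, e, f, x, y, he0, hpe, hpx, rfl⟩ ⟨c', d', e', f', x', y', he0', hpe', hpx', rfl⟩
    obtain ⟨C, D, F, Y, h⟩ := CaseA.u_mul c d e f x y c' d' e' f' x' y'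
    refine ⟨C, D, _, F, _, Y, ?_, he _ _ hpe hpe', hx _ _ hpx hpx', ?_⟩
    · exact (by decide : ∀ a b : Z3, a ≠ .z → b ≠ .z → Z3.mul a b ≠ .z) e e' he0 he0'
    · rw [← h, S.el_mul ((CaseA.u_det ..).2 he0) ((CaseA.u_det ..).2 he0')]
  inv_mem' := by
    intro g hg
    obtain ⟨n, hn⟩ : ∃ n : ℕ, g⁻¹ = g ^ n := by
      refine ⟨orderOf g - 1, inv_eq_of_mul_eq_one_right ?_⟩
      rw [← pow_succ', Nat.sub_add_cancel (orderOf_pos g), pow_orderOf_eq_one]
    rw [hn]
    clear hn
    induction n with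
    | zero => exact ⟨.z, .z, .o, .z, .z, .z, by decide, he1, hx1, by rw [pow_zero]; exact S.el_one⟩
    | succ n ih =>
      rw [pow_succ]
      obtain ⟨c, d, e, f, x, y, he0, hpe, hpx, e1⟩ := hg
      obtain ⟨c', d', e', f', x', y', he0', hpe', hpx', e1'⟩ := ih
      obtain ⟨C, D, F, Y, h⟩ := CaseA.u_mul c' d' e' f' x' y' c d e f x y
      refine ⟨C, D, _, F, _, Y, ?_, he _ _ hpe' hpe, hx _ _ hpx' hpx, ?_⟩
      · exact (by decide : ∀ a b : Z3, a ≠ .z → b ≠ .z → Z3.mul a b ≠ .z) e' e he0' he0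
      · rw [← h, S.el_mul ((CaseA.u_det ..).2 he0') ((CaseA.u_det ..).2 he0), e1', e1]

/-- The Sylow 3-subgroup of the centraliser of `rU`. -/
def uR : Subgroup G := S.uGroup (· = .o) (fun _ => True) (fun _ _ h h' => (CaseA.u_o _ _).1 h h') rfl
  (fun _ _ _ _ => trivial) trivial

/-- The elements with trivial first translation coordinate. -/
def uM : Subgroup G := S.uGroup (fun _ => True) (· = .z) (fun _ _ _ _ => trivial) trivial
  (fun _ _ h h' => (CaseA.u_add _ _ .z).1 h h') rfl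

theorem rU_det : CaseA.rU.det = .o := by decide +kernel

theorem u_cases {a : G} (ha : a ∈ centralizer ({S.el CaseA.rU} : Set G)) (har : a ∈ S.iota.range) :
    ∃ c d e f x y : Z3, e ≠ .z ∧ S.el (CaseA.sh c d e f x y .z) = a := by
  obtain ⟨c, d, e, f, x, y, w, hdet, hcm, hel⟩ :=
    S.exists_sh CaseA.u_facts.1 S.rU_det har (mem_centralizer_singleton_iff.1 ha)
  obtain rfl := CaseA.u_facts.2 c d e f x y w hdet hcm
  exact ⟨c, d, e, f, x, y, (CaseA.u_det ..).1 hdet, hel⟩

theorem uGroup_cent {c d e f x y : Z3} (he : e ≠ .z) :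
    S.el (CaseA.sh c d e f x y .z) ∈ centralizer ({S.el CaseA.rU} : Set G) :=
  mem_centralizer_singleton_iff.2 ((S.el_comm ((CaseA.u_det ..).2 he) S.rU_det).2
    (CaseA.u_mem c d e f x y ((CaseA.u_det ..).2 he))).eq

theorem uR_le : S.uR ≤ centralizer ({S.el CaseA.rU} : Set G) ⊓ S.iota.range := by
  rintro _ ⟨c, d, e, f, x, y, he, -, -, rfl⟩
  exact ⟨S.uGroup_cent he, S.el_mem _⟩

theorem uM_le : S.uM ≤ centralizer ({S.el CaseA.rU} : Set G) ⊓ S.iota.range := by
  rintro _ ⟨c, d, e, f, x, y, he, -, -, rfl⟩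
  exact ⟨S.uGroup_cent he, S.el_mem _⟩

theorem uR_exp {a : G} (ha : a ∈ S.uR) : a ^ 3 = 1 := by
  obtain ⟨c, d, e, f, x, y, he, rfl, -, rfl⟩ := ha
  exact (S.el_pow_three ((CaseA.u_det ..).2 he)).2 (CaseA.u_cube c d f x y)

theorem uR_class {a b c : G} (ha : a ∈ S.uR) (hb : b ∈ S.uR) (hc : c ∈ S.uR) :
    Commute ⁅a, b⁆ c := by
  have hk : ⁅a, b⁆ ∈ S.uR := mul_mem (mul_mem (mul_mem ha hb) (inv_mem ha)) (inv_mem hb)
  have e : ⁅a, b⁆ * (b * a) = a * b := by rw [commutatorElement_def]; group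
  obtain ⟨C, D, -, F, X, Y, h1, rfl, -, hK⟩ := hk
  obtain ⟨c1, d1, -, f1, x1, y1, h2, rfl, -, rfl⟩ := ha
  obtain ⟨c2, d2, -, f2, x2, y2, h3, rfl, -, rfl⟩ := hb
  obtain ⟨c3, d3, -, f3, x3, y3, h4, rfl, -, rfl⟩ := hc
  obtain ⟨F', Y', e1⟩ := CaseA.u_mul_o c1 d1 f1 x1 y1 c2 d2 f2 x2 y2
  obtain ⟨F'', Y'', e2⟩ := CaseA.u_mul_o c2 d2 f2 x2 y2 c1 d1 f1 x1 y1
  obtain ⟨F₃, Y₃, e3⟩ :=
    CaseA.u_mul_o C D F X Y (Z3.add c2 c1) (Z3.add d2 d1) F'' (Z3.add x2 x1) Y''
  have hd : ∀ c d f x y : Z3, (CaseA.sh c d .o f x y .z).det = .o := fun c d f x y =>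
    CaseA.sh_det c d f x y .z
  rw [← hK, ← S.el_mul (hd ..) (hd ..), ← S.el_mul (hd ..) (hd ..), e1, e2,
    ← S.el_mul (hd ..) (hd ..), e3] at e
  have e' := S.el_inj (hd ..) (hd ..) e
  simp only [CaseA.sh, A3.mk.injEq] at e'
  obtain ⟨-, -, hC, hD, -, -, -, -, -, hX, -, -⟩ := e'
  have ac : ∀ u v : Z3, Z3.add u v = Z3.add v u := by decide
  rw [ac c2 c1] at hC
  rw [ac d2 d1] at hD
  obtain rfl := (CaseA.u_cdx c1 d1 c2 d2 C D).1 hC
  obtain rfl := (CaseA.u_cdx c1 d1 c2 d2 .z D).2 hD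
  obtain rfl := (CaseA.u_add x1 x2 X).2.1 hX
  rw [← hK]
  exact (S.el_comm (hd ..) (hd ..)).2 (CaseA.u_central ..)

/-- The centraliser of the transvection representative. -/
theorem cent_U : centralizer ({S.el CaseA.rU} : Set G) ≤ S.iota.range := by
  classical
  haveI : Fact (Nat.Prime 3) := ⟨Nat.prime_three⟩
  set u := S.el CaseA.rU with hu
  set X := centralizer ({u} : Set G) with hX
  have hWX : S.W ≤ X := S.W_commute S.rU_det CaseA.u_plane
  set R : Subgroup X := S.uR.subgroupOf X with hR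
  have hRp : IsPGroup 3 R := fun a => ⟨1, Subtype.ext (Subtype.ext (by simpa using S.uR_exp a.2))⟩
  set v := S.el (tr .z .o .z) with hv
  have hvV : v ∈ S.V := S.el_tr_mem .z .o .z
  have hv1 : v ≠ 1 := fun h =>
    absurd (S.el_inj rfl rfl (h.trans S.el_one.symm)) (by decide +kernel)
  have hvR : v ∈ S.uR := ⟨.z, .z, .o, .z, .z, .o, by decide, rfl, trivial, rfl⟩
  have hvM : v ∈ S.uM := ⟨.z, .z, .o, .z, .z, .o, by decide, trivial, rfl, rfl⟩
  have huR : u ∈ S.uR := ⟨.z, .z, .o, .o, .z, .z, by decide, rfl, trivial, rfl⟩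
  -- the normaliser of `R` is the intersection with the affine group
  have hN : ∀ g ∈ normalizer (R : Set X), (g : G) ∈ S.iota.range := fun g hg =>
    S.ti (S.V_le hvV) (S.pure_V hvV hv1)
      (S.uR_le ((mem_normalizer_iff.1 hg ⟨v, hWX ⟨.z, .o, rfl⟩⟩).1 hvR)).2
  have hN2 : ∀ g ∈ normalizer (R : Set X), g * g ∈ R := by
    intro g hg
    obtain ⟨c, d, e, f, x, y, he, hel⟩ := S.u_cases g.2 (hN g hg)
    obtain ⟨C, D, F, Y, h⟩ := CaseA.u_mul c d e f x y c d e f x y
    refine show (g : G) * g ∈ S.uR from ⟨C, D, .o, F, Z3.add x x, Y, by decide, rfl, trivial, ?_⟩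
    rw [← hel, ← S.el_mul ((CaseA.u_det ..).2 he) ((CaseA.u_det ..).2 he), h, CaseA.u_sq e he]
  obtain ⟨P, hP⟩ := hRp.exists_le_sylow
  have hPR : (P : Subgroup X) = R := by
    refine (eq_of_le_of_not_lt hP fun hlt => ?_).symm
    haveI := P.isPGroup'.isNilpotent
    have hne : R.subgroupOf (P : Subgroup X) < ⊤ :=
      lt_top_iff_ne_top.2 fun h => hlt.not_ge (subgroupOf_eq_top.1 h)
    obtain ⟨g, hg, hgR⟩ := SetLike.exists_of_lt (Group.normalizerCondition_of_isNilpotent _ hne)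
    have hgN : (g : X) ∈ normalizer (R : Set X) := by
      rw [mem_normalizer_iff]
      intro n
      constructor
      · intro hn
        exact (mem_normalizer_iff.1 hg ⟨n, hP hn⟩).1 hn
      · intro hn
        have hnP : n ∈ (P : Subgroup X) := by
          have := mul_mem (mul_mem (inv_mem g.2) (hP hn)) g.2
          rwa [show ((g : X))⁻¹ * ((g : X) * n * (g : X)⁻¹) * g = n by group] at this
        exact (mem_normalizer_iff.1 hg ⟨n, hnP⟩).2 hn
    obtain ⟨k, hk⟩ := P.isPGroup' g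
    obtain ⟨m, hm⟩ := (Odd.pow (by decide : Odd 3) : Odd (3 ^ k))
    have hk' : (g : X) ^ (3 ^ k) = 1 := by exact_mod_cast congrArg Subtype.val hk
    have : (g : X) = ((g : X) * g) ^ (m + 1) := by
      rw [← pow_two, ← pow_mul, show 2 * (m + 1) = 3 ^ k + 1 by omega, pow_succ, hk', one_mul]
    exact hgR (show (g : X) ∈ R from this ▸ pow_mem (hN2 _ hgN) _)
  -- transfer
  have htr : ∀ a ∈ R, a ∈ commutator X → (a : G) ∈ S.uM := by
    have hwc : Cfsg.IsWeaklyClosed R (P : Subgroup X) := by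
      refine ⟨hP, fun g hg => eq_of_le_of_card_ge (hg.trans hPR.le) (le_of_eq ?_)⟩
      exact (card_map_of_injective (MulAut.conj g).injective).symm
    have heq : (P : Subgroup X) ⊓ commutator X =
        (P : Subgroup X) ⊓ ⁅normalizer (R : Set X), normalizer (R : Set X)⁆ := by
      by_contra hne
      obtain ⟨a, ha, c, hc, W₀, hW₀, -, h⟩ := Cfsg.Agent.S2792.result P R hwc hne
      refine h ?_
      have e : (fun y : X => y⁻¹ * c⁻¹ * y * c)^[3 - 1] a = 1 := by
        have haR : a ∈ R := hPR ▸ ha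
        have hk : Commute ⁅a⁻¹, c⁻¹⁆ c :=
          Subtype.ext (S.uR_class (inv_mem haR) (inv_mem hc) hc).eq
        show (a⁻¹ * c⁻¹ * a * c)⁻¹ * c⁻¹ * (a⁻¹ * c⁻¹ * a * c) * c = 1
        rw [show a⁻¹ * c⁻¹ * a * c = ⁅a⁻¹, c⁻¹⁆ by rw [commutatorElement_def, inv_inv, inv_inv],
          mul_assoc _ _ c, hk.eq]
        group
      rw [e]
      exact one_mem _
    intro a haR hac
    have hmem : a ∈ ⁅normalizer (R : Set X), normalizer (R : Set X)⁆ :=
      (heq.le ⟨hPR.symm ▸ haR, hac⟩).2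
    have hle : ⁅normalizer (R : Set X), normalizer (R : Set X)⁆ ≤ S.uM.subgroupOf X := by
      rw [commutator_le]
      intro g hg h hh
      have hk : ⁅g, h⁆ ∈ normalizer (R : Set X) :=
        mul_mem (mul_mem (mul_mem hg hh) (inv_mem hg)) (inv_mem hh)
      obtain ⟨c1, d1, e1, f1, x1, y1, he1, E1⟩ := S.u_cases g.2 (hN g hg)
      obtain ⟨c2, d2, e2, f2, x2, y2, he2, E2⟩ := S.u_cases h.2 (hN h hh)
      obtain ⟨c3, d3, e3, f3, x3, y3, he3, E3⟩ := S.u_cases ⁅g, h⁆.2 (hN _ hk)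
      obtain ⟨C, D, F, Y, m1⟩ := CaseA.u_mul c1 d1 e1 f1 x1 y1 c2 d2 e2 f2 x2 y2
      obtain ⟨C', D', F', Y', m2⟩ := CaseA.u_mul c2 d2 e2 f2 x2 y2 c1 d1 e1 f1 x1 y1
      obtain ⟨C'', D'', F'', Y'', m3⟩ :=
        CaseA.u_mul c3 d3 e3 f3 x3 y3 C' D' (Z3.mul e2 e1) F' (Z3.add x2 x1) Y'
      have d1' := (CaseA.u_det c1 d1 e1 f1 x1 y1).2 he1
      have d2' := (CaseA.u_det c2 d2 e2 f2 x2 y2).2 he2
      have d3' := (CaseA.u_det c3 d3 e3 f3 x3 y3).2 he3
      have e : ((⁅g, h⁆ : X) : G) * ((h : G) * g) = (g : G) * h := by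
        push_cast [commutatorElement_def]; group
      rw [← E1, ← E2, ← E3, ← S.el_mul d1' d2', ← S.el_mul d2' d1',
        ← S.el_mul d3' (A3.det_mul d2' d1'), m1, m2, m3] at e
      have e' := S.el_inj (by rw [← m3, ← m2]; exact A3.det_mul d3' (A3.det_mul d2' d1'))
        (by rw [← m1]; exact A3.det_mul d1' d2') e
      simp only [CaseA.sh, A3.mk.injEq] at e'
      obtain ⟨-, -, -, -, -, -, -, -, -, hx, -, -⟩ := e'
      exact show ((⁅g, h⁆ : X) : G) ∈ S.uM from
        ⟨c3, d3, e3, f3, x3, y3, he3, trivial, (CaseA.u_add x1 x2 x3).2.1 hx, E3⟩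
    exact hle hmem
  -- the normal subgroup with Sylow subgroup of order 81
  set K : Subgroup X := commutator X ⊔ S.uM.subgroupOf X with hK
  have hKn : K.Normal := ⟨fun n hn g => by
    have : ⁅g, n⁆ ∈ K := le_sup_left (a := commutator X)
      (commutator_mem_commutator (mem_top g) (mem_top n))
    simpa [commutatorElement_def] using mul_mem this hn⟩
  haveI := hKn
  have hKH : ∀ a ∈ K, (a : G) ∈ S.iota.range → (a : G) ∈ S.uM := by
    intro a ha har
    obtain ⟨n, hn, m, hm, rfl⟩ := mem_sup_of_normal_left.1 ha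
    have hmM : (m : G) ∈ S.uM := hm
    have hnr : (n : G) ∈ S.iota.range := by
      have := mul_mem har (inv_mem (S.uM_le hmM).2)
      simpa using this
    obtain ⟨c, d, e, f, x, y, he, hel⟩ := S.u_cases n.2 hnr
    obtain ⟨C, D, F, Y, h⟩ := CaseA.u_mul c d e f x y c d e f x y
    have hnn : n * n ∈ R := by
      refine show (n : G) * n ∈ S.uR from ⟨C, D, .o, F, Z3.add x x, Y, by decide, rfl, trivial, ?_⟩
      rw [← hel, ← S.el_mul ((CaseA.u_det ..).2 he) ((CaseA.u_det ..).2 he), h, CaseA.u_sq e he]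
    obtain ⟨c', d', e', f', x', y', he', -, rfl, hel'⟩ := htr _ hnn (mul_mem hn hn)
    have h2 : S.el (CaseA.sh c' d' e' f' .z y' .z) =
        S.el (CaseA.sh C D (Z3.mul e e) F (Z3.add x x) Y .z) := by
      rw [hel', ← h, S.el_mul ((CaseA.u_det ..).2 he) ((CaseA.u_det ..).2 he), hel]
      rfl
    have h3 := congrArg A3.x (S.el_inj ((CaseA.u_det ..).2 he') ((CaseA.u_det ..).2
      (by rw [CaseA.u_sq e he]; decide)) h2)
    obtain rfl := (CaseA.u_add x x .z).2.2 h3.symm
    exact mul_mem (show (n : G) ∈ S.uM from ⟨c, d, e, f, .z, y, he, trivial, rfl, hel⟩) hmM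
  obtain ⟨Q, hQ⟩ := PBasic.exists_sylow_subgroupOf P K
  have hQmem : ∀ a : K, a ∈ (Q : Subgroup K) →
      ∃ c d f y : Z3, S.el (CaseA.sh c d .o f .z y .z) = ((a : X) : G) := by
    intro a ha
    rw [hQ, mem_subgroupOf, hPR] at ha
    obtain ⟨c, d, e, f, x, y, he, he', -, hel⟩ := (ha : ((a : X) : G) ∈ S.uR)
    obtain ⟨c', d', e', f', x', y', he'', -, hx', hel'⟩ :=
      hKH a a.2 ((show _ = ((a : X) : G) from hel) ▸ S.el_mem _)
    have h3 := congrArg A3.x (S.el_inj ((CaseA.u_det ..).2 he'') ((CaseA.u_det ..).2 he)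
      (hel'.trans hel.symm))
    obtain rfl : x = .z := h3.symm.trans hx'
    subst he'
    exact ⟨c, d, f, y, hel⟩
  have inK : ∀ {c d e f y : Z3} (he : e ≠ .z),
      (⟨S.el (CaseA.sh c d e f .z y .z), S.uGroup_cent he⟩ : X) ∈ K := fun {c d e f y} he =>
    le_sup_right (a := commutator X) (show _ ∈ S.uM from ⟨c, d, e, f, .z, y, he, trivial, rfl, rfl⟩)
  have inQ : ∀ {c d f y : Z3},
      (⟨⟨S.el (CaseA.sh c d .o f .z y .z), S.uGroup_cent (by decide)⟩, inK (by decide)⟩ : K) ∈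
        (Q : Subgroup K) := fun {c d f y} => by
    rw [hQ, mem_subgroupOf, hPR]
    exact ⟨c, d, .o, f, .z, y, by decide, rfl, trivial, rfl⟩
  -- the central subgroup
  set uK : K := ⟨⟨S.el (CaseA.sh .z .z .o .o .z .z .z), S.uGroup_cent (by decide)⟩, inK (by decide)⟩
    with huK
  set N : Subgroup K := zpowers uK with hNdef
  have hcent : ∀ n ∈ N, ∀ g : K, g * n = n * g := by
    intro n hn g
    obtain ⟨i, rfl⟩ := mem_zpowers_iff.1 hn
    refine ((show Commute g uK from Subtype.ext (Subtype.ext ?_)).zpow_right i).eq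
    exact mem_centralizer_singleton_iff.1 (g : X).2
  haveI hNn : N.Normal := ⟨fun n hn g => by rw [hcent n hn g, mul_inv_cancel_right]; exact hn⟩
  have hN3 : Nat.card N = 3 := by
    rw [hNdef, Nat.card_zpowers]
    refine orderOf_eq_prime (Subtype.ext (Subtype.ext ?_)) ?_
    · show u ^ 3 = 1
      exact S.uR_exp huR
    · intro h
      have : u = 1 := congrArg (fun a : K => ((a : X) : G)) h
      exact absurd (S.el_inj S.rU_det rfl (this.trans S.el_one.symm)) (by decide +kernel)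
  have hcoreK : Cfsg.pPrimeCore 3 K = ⊥ := by
    have h := PBasic.map_pPrimeCore_le_of_normal (p := 3) K
    rw [S.core_eq_bot hWX, le_bot_iff, map_eq_bot_iff_of_injective _ K.subtype_injective] at h
    exact h
  have hcoreq := CaseA.core_quotient N hN3 hcent hcoreK
  set π := QuotientGroup.mk' N with hπ
  have hπs : Function.Surjective π := QuotientGroup.mk'_surjective N
  haveI : Fintype (K ⧸ N) := Fintype.ofFinite _
  let Q' : Sylow 3 (K ⧸ N) := Q.mapSurjective hπs
  have hQ' : (Q' : Subgroup (K ⧸ N)) = (Q : Subgroup K).map π := rfl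
  have hNQ : N ≤ (Q : Subgroup K) := zpowers_le.2 inQ
  -- congruences modulo the centre
  have hjN : ∀ (a : K) (j : Z3), S.el (CaseA.sh .z .z .o j .z .z .z) = ((a : X) : G) → π a = 1 := by
    intro a j h
    rw [hπ, QuotientGroup.mk'_apply, QuotientGroup.eq_one_iff]
    rcases CaseA.u_powers j with e | e | e
    · rw [show a = 1 from Subtype.ext (Subtype.ext (by rw [← h, e, S.el_one]; rfl))]
      exact one_mem _
    · rw [show a = uK from Subtype.ext (Subtype.ext (by rw [← h, e]; rfl))]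
      exact mem_zpowers _
    · rw [show a = uK * uK from Subtype.ext (Subtype.ext (by
        rw [← h, e, S.el_mul S.rU_det S.rU_det]; rfl))]
      exact mul_mem (mem_zpowers _) (mem_zpowers _)
  have hcomm : ∀ a ∈ (Q : Subgroup K), ∀ b ∈ (Q : Subgroup K), π a * π b = π b * π a := by
    intro a ha b hb
    obtain ⟨c, d, f, y, ea⟩ := hQmem a ha
    obtain ⟨c', d', f', y', eb⟩ := hQmem b hb
    obtain ⟨j, hj⟩ := CaseA.u_abelian c d f y c' d' f' y'
    have h1 : π (a * b * a⁻¹ * b⁻¹) = 1 := by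
      refine hjN _ j ?_
      push_cast
      rw [← ea, ← eb, ← S.el_mul (CaseA.sh_det ..) (CaseA.sh_det ..), hj,
        S.el_mul (CaseA.sh_det ..) (A3.det_mul (CaseA.sh_det ..) (CaseA.sh_det ..)),
        S.el_mul (CaseA.sh_det ..) (CaseA.sh_det ..)]
      group
    rw [← map_mul, ← map_mul]
    calc π (a * b) = π (a * b * a⁻¹ * b⁻¹ * (b * a)) := congrArg π (by group)
      _ = π (b * a) := by rw [map_mul, h1, one_mul]
  -- the inverting element
  have htd : CaseA.tU.det = .o := by decide +kernel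
  set tK : K := ⟨⟨S.el CaseA.tU, S.uGroup_cent (by decide)⟩, inK (by decide)⟩ with htK
  have htt : tK * tK = 1 := Subtype.ext (Subtype.ext (by
    show S.el CaseA.tU * S.el CaseA.tU = 1
    rw [← S.el_mul htd htd, CaseA.u_tt, S.el_one]))
  have hinv : ∀ a ∈ (Q : Subgroup K), π tK * π a * (π tK)⁻¹ = (π a)⁻¹ := by
    intro a ha
    obtain ⟨c, d, f, y, ea⟩ := hQmem a ha
    obtain ⟨j, hj⟩ := CaseA.u_invert c d f y
    have h1 : π (tK * a * tK * a) = 1 := by
      refine hjN _ j ?_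
      push_cast
      rw [← ea, htK]
      show _ = S.el CaseA.tU * _ * S.el CaseA.tU * _
      rw [← S.el_mul htd (CaseA.sh_det ..), ← S.el_mul (A3.det_mul htd (CaseA.sh_det ..)) htd,
        ← S.el_mul (A3.det_mul (A3.det_mul htd (CaseA.sh_det ..)) htd) (CaseA.sh_det ..), hj]
    rw [← map_inv, ← map_inv, ← map_mul, ← map_mul, inv_eq_of_mul_eq_one_right htt]
    refine eq_inv_of_mul_eq_one_left ?_ |>.trans (map_inv π a).symm
    rw [← map_mul, h1]
  have hcases : ∀ g : K, π g ∈ normalizer ((Q' : Subgroup (K ⧸ N)) : Set (K ⧸ N)) →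
      g ∈ (Q : Subgroup K) ∨ ∃ q ∈ (Q : Subgroup K), g = q * tK := by
    intro g hg
    have hgr : ((g : X) : G) ∈ S.iota.range := by
      have hv' : (⟨⟨v, S.uGroup_cent (c := .z) (d := .z) (e := .o) (f := .z) (x := .z) (y := .o)
          (by decide)⟩, inK (by decide)⟩ : K) ∈ (Q : Subgroup K) := inQ
      obtain ⟨q, hq, he⟩ := (mem_normalizer_iff.1 hg _).1 (show π _ ∈ (Q' : Subgroup (K ⧸ N)) from
        mem_map_of_mem π hv')
      rw [← map_inv, ← map_mul, ← map_mul, hπ, QuotientGroup.mk'_apply, QuotientGroup.mk'_apply,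
        QuotientGroup.eq] at he
      have hmem := mul_mem hq (hNQ he)
      rw [mul_inv_cancel_left] at hmem
      obtain ⟨c, d, f, y, e⟩ := hQmem _ hmem
      exact S.ti (S.V_le hvV) (S.pure_V hvV hv1) (by
        push_cast at e
        rw [← e]; exact S.el_mem _)
    obtain ⟨c, d, e, f, x, y, he, -, rfl, hel⟩ := hKH g g.2 hgr
    obtain ⟨c', d', f', y', h | h⟩ := CaseA.u_half c d e f y he
    · left
      rw [show g = ⟨⟨_, S.uGroup_cent (c := c') (d := d') (e := .o) (f := f') (x := .z) (y := y')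
        (by decide)⟩, inK (by decide)⟩ from Subtype.ext (Subtype.ext (by rw [← hel, h]))]
      exact inQ
    · right
      refine ⟨_, inQ (c := c') (d := d') (f := f') (y := y'), Subtype.ext (Subtype.ext ?_)⟩
      show ((g : X) : G) = S.el _ * S.el CaseA.tU
      rw [← hel, h, S.el_mul (CaseA.sh_det ..) htd]
  have hI : SmithTyrer.Inverted Q' (π tK) := by
    refine ⟨by norm_num, ⟨⟨?_⟩⟩, ?_, ?_, ?_⟩
    · rintro ⟨_, a, ha, rfl⟩ ⟨_, b, hb, rfl⟩
      exact Subtype.ext (hcomm a ha b hb)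
    · refine mem_normalizer_fintype ?_
      rintro _ ⟨a, ha, rfl⟩
      rw [hinv a ha]
      exact inv_mem ⟨a, ha, rfl⟩
    · rintro _ ⟨a, ha, rfl⟩
      exact hinv a ha
    · intro y hy
      obtain ⟨g, rfl⟩ := hπs y
      rcases hcases g hy with h | ⟨q, hq, rfl⟩
      · left
        rintro _ ⟨a, ha, rfl⟩
        rw [hcomm g h a ha, mul_inv_cancel_right]
      · right
        rintro _ ⟨a, ha, rfl⟩
        rw [map_mul]
        calc π q * π tK * π a * (π q * π tK)⁻¹
            = π q * (π tK * π a * (π tK)⁻¹) * (π q)⁻¹ := by group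
          _ = _ := by rw [hinv a ha, ← map_inv, hcomm q hq a⁻¹ (inv_mem ha), mul_inv_cancel_right]
  have hnc : ¬ IsCyclic (Q' : Subgroup (K ⧸ N)) := by
    intro hc
    obtain ⟨g, hg⟩ := hc.exists_generator
    have h3 : g ^ 3 = 1 := by
      obtain ⟨a, ha, hag⟩ := (g.2 : (g : K ⧸ N) ∈ (Q : Subgroup K).map π)
      obtain ⟨c, d, f, y, e⟩ := hQmem a ha
      refine Subtype.ext ?_
      push_cast
      rw [← hag, ← map_pow, show a ^ 3 = 1 from Subtype.ext (Subtype.ext (by
        push_cast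
        rw [← e]
        exact (S.el_pow_three (CaseA.sh_det ..)).2 (CaseA.u_cube ..))), map_one]
    have h1 := orderOf_le_of_pow_eq_one (by norm_num) h3
    rw [orderOf_eq_card_of_forall_mem_zpowers hg] at h1
    let φ : Z3 × Z3 → (Q' : Subgroup (K ⧸ N)) := fun p =>
      ⟨π _, mem_map_of_mem π (inQ (c := p.1) (d := p.2) (f := .z) (y := .z))⟩
    have hφ : Function.Injective φ := by
      rintro ⟨c, d⟩ ⟨c', d'⟩ h
      have he := congrArg Subtype.val h
      simp only [φ, hπ, QuotientGroup.mk'_apply, QuotientGroup.eq, hNdef] at he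
      obtain ⟨j, hj⟩ : ∃ j : Z3, S.el (CaseA.sh c' d' .o .z .z .z .z) =
          S.el (CaseA.sh c d .o .z .z .z .z) * S.el (CaseA.sh .z .z .o j .z .z .z) := by
        obtain ⟨i, hi, ei⟩ := Finset.mem_image.1 (mem_zpowers_iff_mem_range_orderOf.1 he)
        rw [Finset.mem_range, ← Nat.card_zpowers, ← hNdef, hN3] at hi
        have e' := congrArg (fun a : K => ((a : X) : G)) ei
        simp only [SubgroupClass.coe_pow, Subgroup.coe_mul, InvMemClass.coe_inv, huK] at e'
        have hj : ∀ i < 3, ∃ j : Z3, CaseA.sh .z .z .o j .z .z .z =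
            [1, CaseA.rU, CaseA.rU * CaseA.rU].getD i 1 := by decide +kernel
        obtain ⟨j, ej⟩ := hj i hi
        refine ⟨j, ?_⟩
        rw [ej]
        interval_cases i
        · rw [pow_zero] at e'
          simp only [List.getD_cons_zero, S.el_one, mul_one]
          exact (inv_mul_eq_one.1 e'.symm).symm
        · rw [pow_one] at e'
          simp only [List.getD_cons_succ, List.getD_cons_zero]
          exact eq_mul_of_inv_mul_eq e'.symm
        · rw [pow_two] at e'
          simp only [List.getD_cons_succ, List.getD_cons_zero, S.el_mul S.rU_det S.rU_det]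
          exact eq_mul_of_inv_mul_eq e'.symm
      have hA := hj
      rw [← S.el_mul (CaseA.sh_det ..) (CaseA.sh_det ..)] at hA
      exact (by decide +kernel : ∀ c d c' d' j : Z3, CaseA.sh c' d' .o .z .z .z .z =
        CaseA.sh c d .o .z .z .z .z * CaseA.sh .z .z .o j .z .z .z → (c, d) = (c', d'))
        c d c' d' j (S.el_inj (CaseA.sh_det ..) (A3.det_mul (CaseA.sh_det ..) (CaseA.sh_det ..)) hA)
    have h9 := Nat.card_le_card_of_injective φ hφ
    rw [Nat.card_prod, Nat.card_eq_fintype_card] at h9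
    have : Fintype.card Z3 = 3 := by decide
    rw [this] at h9
    omega
  have hQn' : (Q' : Subgroup (K ⧸ N)).Normal :=
    A9Three.sylow_normal_of_pLength_one (SmithTyrer.pLength_one hI hnc hcoreq) hcoreq Q'
  have hQn : (Q : Subgroup K).Normal := by
    have := hQn'.comap π
    rwa [hQ', comap_map_eq_self (by rwa [hπ, QuotientGroup.ker_mk'])] at this
  -- conclusion
  intro g hg
  set vK : K := ⟨⟨v, (S.uM_le hvM).1⟩, le_sup_right (a := commutator X) hvM⟩ with hvK
  set w : K := ⟨⟨g, hg⟩ * (vK : X) * (⟨g, hg⟩ : X)⁻¹, hKn.conj_mem _ vK.2 _⟩ with hw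
  have hw3 : w ^ 3 = 1 := Subtype.ext (Subtype.ext (by
    show (g * v * g⁻¹) ^ 3 = 1
    rw [conj_pow, S.uR_exp hvR, mul_one, mul_inv_cancel]))
  have hwp : IsPGroup 3 (zpowers w) := by
    intro a
    obtain ⟨n, hn⟩ := mem_zpowers_iff.1 a.2
    refine ⟨1, Subtype.ext ?_⟩
    push_cast
    rw [← hn, ← zpow_natCast, ← zpow_mul, mul_comm, zpow_mul, zpow_natCast, hw3, one_zpow]
  obtain ⟨Q₁, hQ₁⟩ := hwp.exists_le_sylow
  obtain ⟨k, hk⟩ := MulAction.exists_smul_eq K Q Q₁
  have hwQ : w ∈ (Q : Subgroup K) := by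
    haveI := hQn
    have := hQ₁ (mem_zpowers w)
    rwa [← hk, Sylow.smul_eq_of_normal] at this
  obtain ⟨c, d, f, y, e⟩ := hQmem w hwQ
  exact S.ti (S.V_le hvV) (S.pure_V hvV hv1) (show g * v * g⁻¹ ∈ S.iota.range from
    (show _ = g * v * g⁻¹ from e) ▸ S.el_mem _)

end SetA

end Cfsg.Agent.L43Three
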