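import Cfsg.Agent.Lib.L43Three.CaseA.Small

/-!
S3373, case A: the centraliser of the representative `rY`, and of the planes over a transvection.
-/

set_option autoImplicit false
set_option linter.style.haveILetI false
set_option linter.unusedSectionVars false
set_option maxRecDepth 20000
set_option synthInstance.maxSize 2000
set_option maxHeartbeats 1000000

namespace Cfsg.Agent.L43Three

open Subgroup
open scoped commutatorElement
open WreathChar (Z3)
open A3 (tr upper fix1 qel Z0 eA)

namespace CaseA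

theorem y_facts : lin rY = rU ∧ ∀ c d e f x y w : Z3, (sh c d e f x y w).det = .o →
    sh c d e f x y w * rY = rY * sh c d e f x y w → c = .z ∧ e = .o ∧ w = f := by
  refine ⟨rfl, ?_⟩
  decide +kernel

theorem y_cube : ∀ d f x y : Z3,
    sh .z d .o f x y f * sh .z d .o f x y f * sh .z d .o f x y f = 1 := by decide +kernel

theorem y_comm : ∀ d f x y d' f' x' y' : Z3, ∃ k : Z3, sh .z d .o f x y f * sh .z d' .o f' x' y' f' =
    tr .z k .z * (sh .z d' .o f' x' y' f' * sh .z d .o f x y f) := by decide +kernel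

theorem y_tr : ∀ k d f x y : Z3,
    tr .z k .z * sh .z d .o f x y f = sh .z d .o f x y f * tr .z k .z := by decide +kernel

theorem y_plane : ∀ x y : Z3, tr x y .z * rY = rY * tr x y .z := by decide +kernel

theorem ab_cube : ∀ c f x y : Z3,
    sh c .z .o f x y .z * sh c .z .o f x y .z * sh c .z .o f x y .z = 1 := by decide +kernel

theorem ab_comm : ∀ c f x y c' f' x' y' : Z3,
    sh c .z .o f x y .z * sh c' .z .o f' x' y' .z = sh c' .z .o f' x' y' .z * sh c .z .o f x y .z := by
  decide +kernel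

theorem sh_det : ∀ c d f x y w : Z3, (sh c d .o f x y w).det = .o := by decide +kernel

end CaseA

namespace SetA

variable {G : Type*} [Group G] [Finite G] (S : SetA G)
include S

/-- An element of the affine group centralising an element over the transvection. -/
theorem exists_sh {r : A3} (hr : CaseA.lin r = CaseA.rU) (hrd : r.det = .o) {a : G}
    (ha : a ∈ S.iota.range) (hc : a * S.el r = S.el r * a) :
    ∃ c d e f x y w : Z3, (CaseA.sh c d e f x y w).det = .o ∧
      CaseA.sh c d e f x y w * r = r * CaseA.sh c d e f x y w ∧ S.el (CaseA.sh c d e f x y w) = a := by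
  obtain ⟨p, hp, rfl⟩ := S.exists_el ha
  have h : p * r = r * p := (S.el_comm hp hrd).1 hc
  have e := CaseA.eq_sh hr hp h
  exact ⟨_, _, _, _, _, _, _, e ▸ hp, e ▸ h, e ▸ rfl⟩

theorem W_commute {r : A3} (hr : r.det = .o) (h : ∀ x y : Z3, tr x y .z * r = r * tr x y .z) :
    S.W ≤ centralizer ({S.el r} : Set G) := by
  rintro _ ⟨x, y, rfl⟩
  exact mem_centralizer_singleton_iff.2 ((S.el_comm rfl hr).2 (h x y)).eq

theorem cent_Y : centralizer ({S.el CaseA.rY} : Set G) ≤ S.iota.range := by
  have hd : CaseA.rY.det = .o := by decide +kernel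
  have key : ∀ a ∈ centralizer ({S.el CaseA.rY} : Set G), a ∈ S.iota.range →
      ∃ d f x y : Z3, S.el (CaseA.sh .z d .o f x y f) = a := by
    intro a ha har
    obtain ⟨c, d, e, f, x, y, w, hdet, hcm, hel⟩ :=
      S.exists_sh CaseA.y_facts.1 hd har (mem_centralizer_singleton_iff.1 ha)
    obtain ⟨rfl, rfl, rfl⟩ := CaseA.y_facts.2 c d e f x y w hdet hcm
    exact ⟨_, _, _, _, hel⟩
  refine S.small (S.W_commute hd CaseA.y_plane) (fun a ha har => ?_) ?_
  · obtain ⟨d, f, x, y, rfl⟩ := key a ha har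
    exact (S.el_pow_three (CaseA.sh_det ..)).2 (CaseA.y_cube d f x y)
  · rintro a ⟨ha, har⟩ b ⟨hb, hbr⟩ c ⟨hc, hcr⟩
    obtain ⟨d, f, x, y, rfl⟩ := key a ha har
    obtain ⟨d', f', x', y', rfl⟩ := key b hb hbr
    obtain ⟨d'', f'', x'', y'', rfl⟩ := key c hc hcr
    obtain ⟨k, hk⟩ := CaseA.y_comm d f x y d' f' x' y'
    have e : ⁅S.el (CaseA.sh .z d .o f x y f), S.el (CaseA.sh .z d' .o f' x' y' f')⁆ =
        S.el (tr .z k .z) := by
      rw [commutatorElement_def, ← S.el_mul (CaseA.sh_det ..) (CaseA.sh_det ..), hk,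
        S.el_mul rfl (A3.det_mul (CaseA.sh_det ..) (CaseA.sh_det ..)),
        S.el_mul (CaseA.sh_det ..) (CaseA.sh_det ..)]
      group
    rw [e]
    exact (S.el_comm rfl (CaseA.sh_det ..)).2 (CaseA.y_tr ..)

/-- A plane over the transvection whose centraliser in the affine group is abelian of order 81. -/
theorem cent_pair {r a : A3} (hr : CaseA.lin r = CaseA.rU) (hrd : r.det = .o) (had : a.det = .o)
    (hW : ∀ x y : Z3, tr x y .z * r = r * tr x y .z ∧ tr x y .z * a = a * tr x y .z)
    (hsh : ∀ c d e f x y w : Z3, (CaseA.sh c d e f x y w).det = .o →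
      CaseA.sh c d e f x y w * r = r * CaseA.sh c d e f x y w →
      CaseA.sh c d e f x y w * a = a * CaseA.sh c d e f x y w → d = .z ∧ e = .o ∧ w = .z) :
    centralizer ({S.el r} : Set G) ⊓ centralizer ({S.el a} : Set G) ≤ S.iota.range := by
  have key : ∀ g ∈ centralizer ({S.el r} : Set G) ⊓ centralizer ({S.el a} : Set G),
      g ∈ S.iota.range → ∃ c f x y : Z3, S.el (CaseA.sh c .z .o f x y .z) = g := by
    rintro g ⟨h1, h2⟩ hg
    obtain ⟨c, d, e, f, x, y, w, hdet, hcm, hel⟩ :=
      S.exists_sh hr hrd hg (mem_centralizer_singleton_iff.1 h1)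
    obtain ⟨rfl, rfl, rfl⟩ := hsh c d e f x y w hdet hcm
      ((S.el_comm hdet had).1 (by rw [hel]; exact mem_centralizer_singleton_iff.1 h2))
    exact ⟨_, _, _, _, hel⟩
  refine S.small (le_inf (S.W_commute hrd fun x y => (hW x y).1)
    (S.W_commute had fun x y => (hW x y).2)) (fun g hg hgr => ?_) ?_
  · obtain ⟨c, f, x, y, rfl⟩ := key g hg hgr
    exact (S.el_pow_three (CaseA.sh_det ..)).2 (CaseA.ab_cube c f x y)
  · rintro g ⟨hg, hgr⟩ h ⟨hh, hhr⟩ k -
    obtain ⟨c, f, x, y, rfl⟩ := key g hg hgr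
    obtain ⟨c', f', x', y', rfl⟩ := key h hh hhr
    rw [commutatorElement_eq_one_iff_mul_comm.2
      ((S.el_comm (CaseA.sh_det ..) (CaseA.sh_det ..)).2 (CaseA.ab_comm ..)).eq]
    exact Commute.one_left _

end SetA

end Cfsg.Agent.L43Three
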