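import Cfsg.Agent.Lib.L43Three.Loc

/-!
S3373, case A: finite facts about the elements of order three of `3³:SL(3,3)`.
-/

set_option autoImplicit false
set_option maxRecDepth 20000
set_option synthInstance.maxSize 2000
set_option maxHeartbeats 1000000
set_option linter.constructorNameAsVariable false

namespace Cfsg.Agent.L43Three.CaseA

open A3
open WreathChar (Z3)

/-- The transvection representative. -/
def rU : A3 := upper .z .z .o .z .z .z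
/-- The first mixed representative. -/
def rXp : A3 := upper .z .z .o .o .z .z
/-- The second mixed representative. -/
def rXm : A3 := upper .z .z .o .d .z .z
/-- The representative with centraliser of order 81. -/
def rY : A3 := upper .z .z .o .z .z .o
/-- The representative with centraliser of order 27. -/
def rR : A3 := upper .o .z .o .z .z .z
/-- The representatives outside the translations. -/
def reps : List A3 := [rU, rXp, rXm, rY, rR]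

/-- Linear maps bringing a unitriangular matrix to one of three representatives. -/
def linWit : List A3 := [
  ⟨.o, .z, .z, .z, .o, .z, .z, .z, .o, .z, .z, .z⟩,
  ⟨.o, .o, .z, .z, .o, .z, .z, .z, .o, .z, .z, .z⟩,
  ⟨.o, .d, .z, .z, .o, .z, .z, .z, .o, .z, .z, .z⟩,
  ⟨.d, .z, .z, .z, .o, .z, .z, .z, .d, .z, .z, .z⟩,
  ⟨.d, .o, .z, .z, .o, .z, .z, .z, .d, .z, .z, .z⟩,
  ⟨.d, .d, .z, .z, .o, .z, .z, .z, .d, .z, .z, .z⟩,
  ⟨.o, .z, .z, .z, .d, .z, .z, .z, .d, .z, .z, .z⟩,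
  ⟨.d, .z, .z, .z, .d, .z, .z, .z, .o, .z, .z, .z⟩,
  ⟨.z, .o, .z, .d, .o, .z, .z, .z, .o, .z, .z, .z⟩,
  ⟨.z, .d, .z, .o, .o, .z, .z, .z, .o, .z, .z, .z⟩,
  ⟨.o, .z, .z, .z, .d, .o, .z, .z, .d, .z, .z, .z⟩,
  ⟨.o, .z, .z, .z, .d, .d, .z, .z, .d, .z, .z, .z⟩,
  ⟨.d, .z, .z, .z, .d, .o, .z, .z, .o, .z, .z, .z⟩,
  ⟨.d, .z, .z, .z, .d, .d, .z, .z, .o, .z, .z, .z⟩,
  ⟨.z, .z, .o, .o, .o, .z, .z, .o, .o, .z, .z, .z⟩,
  ⟨.z, .z, .o, .d, .o, .z, .z, .d, .o, .z, .z, .z⟩,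
  ⟨.z, .z, .d, .o, .o, .z, .z, .d, .o, .z, .z, .z⟩,
  ⟨.z, .z, .d, .d, .o, .z, .z, .o, .o, .z, .z, .z⟩,
  ⟨.z, .z, .o, .o, .o, .z, .z, .o, .z, .z, .z, .z⟩,
  ⟨.z, .z, .d, .o, .o, .z, .z, .d, .z, .z, .z, .z⟩]

/-- Affine maps bringing an element over a representative to a normal form. -/
def affWit : List A3 := [
  ⟨.o, .z, .z, .z, .o, .z, .z, .z, .o, .z, .z, .z⟩,
  ⟨.o, .z, .z, .z, .o, .z, .z, .z, .o, .z, .z, .o⟩,
  ⟨.o, .z, .z, .z, .o, .z, .z, .z, .o, .z, .z, .d⟩,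
  ⟨.o, .z, .o, .z, .o, .z, .z, .z, .o, .z, .o, .z⟩,
  ⟨.o, .z, .o, .z, .o, .z, .z, .z, .o, .z, .o, .o⟩,
  ⟨.o, .z, .o, .z, .o, .z, .z, .z, .o, .z, .o, .d⟩,
  ⟨.o, .z, .d, .z, .o, .z, .z, .z, .o, .z, .d, .z⟩,
  ⟨.o, .z, .d, .z, .o, .z, .z, .z, .o, .z, .d, .o⟩,
  ⟨.o, .z, .d, .z, .o, .z, .z, .z, .o, .z, .d, .d⟩,
  ⟨.o, .z, .z, .z, .d, .z, .z, .z, .d, .z, .z, .z⟩,
  ⟨.o, .z, .z, .z, .d, .z, .z, .z, .d, .z, .z, .o⟩,
  ⟨.o, .z, .z, .z, .d, .z, .z, .z, .d, .z, .z, .d⟩,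
  ⟨.o, .z, .o, .z, .d, .z, .z, .z, .d, .z, .z, .z⟩,
  ⟨.o, .z, .o, .z, .d, .z, .z, .z, .d, .z, .z, .o⟩,
  ⟨.o, .z, .o, .z, .d, .z, .z, .z, .d, .z, .z, .d⟩,
  ⟨.o, .z, .d, .z, .d, .z, .z, .z, .d, .z, .z, .z⟩,
  ⟨.o, .z, .d, .z, .d, .z, .z, .z, .d, .z, .z, .o⟩,
  ⟨.o, .z, .d, .z, .d, .z, .z, .z, .d, .z, .z, .d⟩]

/-- Conjugators from the second root element to its orbit. -/
def vpWit : List A3 := [
  ⟨.o, .z, .z, .z, .o, .z, .z, .z, .o, .z, .z, .z⟩,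
  ⟨.o, .z, .z, .z, .o, .z, .z, .z, .o, .z, .o, .z⟩,
  ⟨.o, .z, .z, .z, .o, .z, .z, .z, .o, .z, .d, .z⟩,
  ⟨.o, .z, .z, .z, .o, .o, .z, .z, .o, .z, .z, .z⟩,
  ⟨.o, .z, .z, .z, .o, .d, .z, .z, .o, .z, .z, .z⟩,
  ⟨.o, .z, .z, .z, .o, .o, .z, .z, .o, .z, .z, .o⟩,
  ⟨.o, .z, .z, .z, .o, .o, .z, .z, .o, .z, .z, .d⟩,
  ⟨.o, .z, .z, .z, .o, .d, .z, .z, .o, .z, .z, .o⟩,
  ⟨.o, .z, .z, .z, .o, .d, .z, .z, .o, .z, .z, .d⟩,
  ⟨.o, .z, .z, .z, .d, .z, .z, .z, .d, .z, .z, .z⟩,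
  ⟨.o, .z, .z, .z, .o, .o, .z, .o, .d, .z, .z, .z⟩,
  ⟨.o, .z, .z, .z, .o, .o, .z, .d, .z, .z, .z, .z⟩,
  ⟨.o, .z, .z, .z, .o, .d, .z, .o, .z, .z, .z, .z⟩,
  ⟨.o, .z, .z, .z, .o, .d, .z, .d, .d, .z, .z, .z⟩,
  ⟨.o, .z, .z, .z, .d, .z, .z, .z, .d, .z, .o, .z⟩,
  ⟨.o, .z, .z, .z, .d, .z, .z, .z, .d, .z, .d, .z⟩,
  ⟨.o, .z, .z, .z, .o, .o, .z, .o, .d, .z, .z, .o⟩,
  ⟨.o, .z, .z, .z, .o, .o, .z, .o, .d, .z, .z, .d⟩,
  ⟨.o, .z, .z, .z, .o, .o, .z, .d, .z, .z, .z, .o⟩,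
  ⟨.o, .z, .z, .z, .o, .o, .z, .d, .z, .z, .z, .d⟩,
  ⟨.o, .z, .z, .z, .o, .d, .z, .o, .z, .z, .z, .o⟩,
  ⟨.o, .z, .z, .z, .o, .d, .z, .o, .z, .z, .z, .d⟩,
  ⟨.o, .z, .z, .z, .o, .d, .z, .d, .d, .z, .z, .o⟩,
  ⟨.o, .z, .z, .z, .o, .d, .z, .d, .d, .z, .z, .d⟩]

/-- Conjugators from the regular unipotent element. -/
def regWit : List A3 := [
  ⟨.o, .z, .z, .z, .o, .z, .z, .z, .o, .z, .z, .z⟩,
  ⟨.o, .z, .z, .z, .o, .z, .z, .z, .o, .z, .o, .z⟩,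
  ⟨.o, .z, .z, .z, .o, .z, .z, .z, .o, .z, .d, .z⟩,
  ⟨.o, .z, .z, .z, .o, .o, .z, .z, .o, .z, .z, .z⟩,
  ⟨.o, .z, .z, .z, .o, .d, .z, .z, .o, .z, .z, .z⟩,
  ⟨.o, .z, .z, .z, .o, .o, .z, .z, .o, .z, .o, .z⟩,
  ⟨.o, .z, .z, .z, .o, .o, .z, .z, .o, .z, .d, .z⟩,
  ⟨.o, .z, .z, .z, .o, .d, .z, .z, .o, .z, .o, .z⟩,
  ⟨.o, .z, .z, .z, .o, .d, .z, .z, .o, .z, .d, .z⟩,
  ⟨.d, .z, .z, .z, .o, .z, .z, .z, .d, .z, .z, .z⟩,
  ⟨.d, .z, .z, .z, .o, .z, .z, .z, .d, .z, .o, .z⟩,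
  ⟨.d, .z, .z, .z, .o, .z, .z, .z, .d, .z, .d, .z⟩,
  ⟨.d, .z, .z, .z, .o, .o, .z, .z, .d, .z, .z, .z⟩,
  ⟨.d, .z, .z, .z, .o, .d, .z, .z, .d, .z, .z, .z⟩,
  ⟨.d, .z, .z, .z, .o, .o, .z, .z, .d, .z, .o, .z⟩,
  ⟨.d, .z, .z, .z, .o, .o, .z, .z, .d, .z, .d, .z⟩,
  ⟨.d, .z, .z, .z, .o, .d, .z, .z, .d, .z, .o, .z⟩,
  ⟨.d, .z, .z, .z, .o, .d, .z, .z, .d, .z, .d, .z⟩]

theorem linWit_det : ∀ g ∈ linWit, g.det = .o := by decide +kernel

theorem affWit_det : ∀ g ∈ affWit, g.det = .o := by decide +kernel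

theorem vpWit_det : ∀ g ∈ vpWit, g.det = .o := by decide +kernel

theorem regWit_det : ∀ g ∈ regWit, g.det = .o := by decide +kernel

theorem reps_det : ∀ g ∈ reps, g.det = .o := by decide +kernel

theorem upper_det : ∀ b c f x y w : Z3, (upper b c f x y w).det = .o := by decide +kernel

/-- The shape of an element over a representative. -/
def Shaped (r : A3) : Prop :=
  (∃ x y w : Z3, r = tr x y w) ∨ (∃ x y w : Z3, r = upper .z .z .o x y w) ∨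
    ∃ x y w : Z3, r = upper .o .z .o x y w

instance (r : A3) : Decidable (Shaped r) := by unfold Shaped; infer_instance

/-- The translation part of a product. -/
def shift (g p : A3) (r : Z3 → Z3 → Z3 → A3) : A3 := r (g * p).x (g * p).y (g * p).w

theorem step_one : ∀ b c f x y w : Z3, ∃ g ∈ linWit,
    g * upper b c f x y w = shift g (upper b c f x y w) tr * g ∨
      g * upper b c f x y w = shift g (upper b c f x y w) (upper .z .z .o) * g ∨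
      g * upper b c f x y w = shift g (upper b c f x y w) (upper .o .z .o) * g := by decide +kernel

theorem step_two : ∀ x y w : Z3,
    (upper .z .z .o x y w * upper .z .z .o x y w * upper .z .z .o x y w = 1 →
      ∃ g ∈ affWit, ∃ r ∈ reps, g * upper .z .z .o x y w = r * g) ∧
    (upper .o .z .o x y w * upper .o .z .o x y w * upper .o .z .o x y w = 1 →
      ∃ g ∈ affWit, ∃ r ∈ reps, g * upper .o .z .o x y w = r * g) := by decide +kernel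

/-- A swap of the first two translations. -/
def sw : A3 := ⟨.o, .o, .z, .d, .z, .z, .z, .z, .o, .z, .z, .z⟩

/-- Carries the second root element to the transvection representative. -/
def uWit : A3 := ⟨.o, .o, .z, .z, .z, .o, .o, .z, .o, .z, .z, .z⟩

theorem sw_det : sw.det = .o ∧ uWit.det = .o := by decide +kernel

theorem mixed_wit : sw * rXp = qel .z .o .o .d .z * sw ∧ sw * rXm = qel .z .o .d .o .z * sw ∧
    sw * rY = qel .z .o .z .z .o * sw ∧ uWit * rU = eA * uWit := by decide +kernel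

theorem vp_orbit : ∀ b c x : Z3, ¬ (b = .z ∧ c = .z) →
    ∃ g ∈ vpWit, g * eA = qel b c x .z .z * g := by decide +kernel

theorem reg_orbit : ∀ k a x : Z3, k ≠ .z →
    ∃ g ∈ regWit, g * rR = upper k a k x .z .z * g := by decide +kernel

theorem rR_facts : rR * Z0 = Z0 * rR ∧ rR * rR * rR = 1 ∧ rR.b = .o := by decide +kernel

/-- The noncentral elements of the two abelian normal subgroups. -/
def modElts : List A3 :=
  [.o, .d].flatMap (fun p => [.z, .o, .d].flatMap fun q => [.z, .o, .d].flatMap fun x =>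
    [qel .z .z x p q, qel p q x .z .z]) ++
  [.o, .d].flatMap fun q => [.z, .o, .d].flatMap fun x => [qel .z .z x .z q, qel .z q x .z .z]

theorem modElts_shape : ∀ m ∈ modElts, m * Z0 = Z0 * m ∧ m.det = .o ∧ (∀ j ∈ [1, Z0, Z0 * Z0],
    (∃ x y w : Z3, m * j = tr x y w ∧ ¬ (y = .z ∧ w = .z)) ∧
        (∀ k ∈ [1, Z0, Z0 * Z0], ∃ x y w : Z3, m * k = tr x y w ∧ ¬ (y = .z ∧ w = .z)) ∨
      (∃ b c x : Z3, m * j = qel b c x .z .z ∧ ¬ (b = .z ∧ c = .z)) ∧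
        (∀ k ∈ [1, Z0, Z0 * Z0], ∃ b c x : Z3, m * k = qel b c x .z .z ∧ ¬ (b = .z ∧ c = .z))) := by
  decide +kernel

theorem cube_comm : ∀ b c e f h i x y w : Z3, (fix1 b c e f h i x y w).det = .o →
    fix1 b c e f h i x y w * fix1 b c e f h i x y w * fix1 b c e f h i x y w = 1 →
    ¬ (e = .o ∧ f = .z ∧ h = .z ∧ i = .o) →
    ∃ m ∈ modElts, fix1 b c e f h i x y w * m = m * fix1 b c e f h i x y w := by decide +kernel

theorem rR_cent : ∀ b c e f h i x y w : Z3,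
    (fix1 b c e f h i x y w).det = .o →
    fix1 b c e f h i x y w * rR = rR * fix1 b c e f h i x y w →
    fix1 b c e f h i x y w = upper b c b x .z .z := by decide +kernel

theorem rR_step : ∀ k a x : Z3, (upper k a k x .z .z * rR).b = Z3.add k .o ∧
    upper k a k x .z .z * rR = upper (Z3.add k .o) (upper k a k x .z .z * rR).c (Z3.add k .o)
      (upper k a k x .z .z * rR).x .z .z := by decide +kernel

theorem upper_k_zero : ∀ a x : Z3, (a ≠ .z → upper .z a .z x .z .z = qel .z a x .z .z) ∧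
    (upper .z .z .z x .z .z = tr x .z .z) := by decide +kernel

end Cfsg.Agent.L43Three.CaseA
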