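import Cfsg.Agent.Lib.L43Three.CaseA.CentT

/-!
S3373, case A: the involutions and the elements of order three of the affine group; finite facts and
their consequences.
-/

set_option autoImplicit false
set_option linter.style.haveILetI false
set_option linter.unusedSectionVars false
set_option maxRecDepth 20000
set_option synthInstance.maxSize 2000
set_option maxHeartbeats 1000000
set_option linter.constructorNameAsVariable false

namespace Cfsg.Agent.L43Three

open Subgroup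
open WreathChar (Z3)
open A3 (tr upper fix1 qel Z0 eA)

universe u

namespace CaseA

/-- Conjugators of the block involutions to the standard one. -/
def invWit : List A3 := [
  ⟨.o, .z, .z, .z, .o, .z, .z, .z, .o, .z, .z, .z⟩,
  ⟨.z, .z, .o, .z, .o, .z, .d, .z, .z, .z, .z, .z⟩,
  ⟨.z, .o, .z, .d, .z, .z, .z, .z, .o, .z, .z, .z⟩,
  ⟨.z, .z, .o, .z, .o, .o, .d, .z, .z, .z, .z, .z⟩,
  ⟨.z, .z, .o, .z, .o, .d, .d, .z, .z, .z, .z, .z⟩,
  ⟨.z, .o, .z, .z, .o, .o, .o, .z, .z, .z, .z, .z⟩,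
  ⟨.z, .o, .z, .z, .o, .d, .d, .z, .z, .z, .z, .z⟩,
  ⟨.z, .o, .o, .z, .o, .z, .d, .z, .z, .z, .z, .z⟩,
  ⟨.z, .o, .o, .d, .z, .z, .z, .z, .o, .z, .z, .z⟩,
  ⟨.z, .o, .d, .z, .o, .z, .o, .z, .z, .z, .z, .z⟩,
  ⟨.z, .o, .d, .d, .z, .z, .z, .z, .o, .z, .z, .z⟩,
  ⟨.z, .o, .o, .z, .o, .d, .o, .z, .z, .z, .z, .z⟩,
  ⟨.z, .o, .d, .z, .o, .o, .d, .z, .z, .z, .z, .z⟩]

theorem invWit_det : ∀ g ∈ invWit, g.det = .o := by decide +kernel

theorem blk_inv : ∀ a e f h i : Z3, (blk a e f h i .z).det = .o →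
    blk a e f h i .z * blk a e f h i .z = 1 → blk a e f h i .z ≠ 1 →
    ∃ g ∈ invWit, g * blk a e f h i .z = tU * g := by decide +kernel

theorem blk_mul : ∀ a e f h i x a' e' f' h' i' x' : Z3, ∃ E F H I : Z3,
    blk a e f h i x * blk a' e' f' h' i' x' =
      blk (Z3.mul a a') E F H I (Z3.add x (Z3.mul a x')) := by
  intro a e f h i x a' e' f' h' i' x'
  have hz : ∀ v : Z3, Z3.mul .z v = .z := fun _ => rfl
  have hz' : ∀ v : Z3, Z3.mul v .z = .z := by decide
  have az : ∀ v : Z3, Z3.add v .z = v := by decide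
  have za : ∀ v : Z3, Z3.add .z v = v := by decide
  exact ⟨_, _, _, _, by
    show A3.mul _ _ = _
    simp only [A3.mul, blk, hz, hz', az, za]
    rfl⟩

theorem blk_inverse : ∀ a e f h i : Z3, (blk a e f h i .z).det = .o →
    (blk a (Z3.mul a i) (Z3.mul a (Z3.neg f)) (Z3.mul a (Z3.neg h)) (Z3.mul a e) .z).det = .o ∧
    blk a e f h i .z *
      blk a (Z3.mul a i) (Z3.mul a (Z3.neg f)) (Z3.mul a (Z3.neg h)) (Z3.mul a e) .z = 1 := by
  decide +kernel

theorem blk_comm : ∀ a e f h i x : Z3, blk a e f h i x * tU = tU * blk a e f h i x := by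
  decide +kernel

theorem transvection_rep : ∀ x y w : Z3,
    upper .z .z .o x y w * upper .z .z .o x y w * upper .z .z .o x y w = 1 →
      ∃ g ∈ affWit, ∃ r ∈ [rU, rXp, rXm, rY], g * upper .z .z .o x y w = r * g := by decide +kernel

theorem reps_fix : ∀ r ∈ reps, r * Z0 = Z0 * r := by decide +kernel

theorem upper_fix : ∀ x y w : Z3, upper .z .z .o x y w * Z0 = Z0 * upper .z .z .o x y w := by
  decide +kernel

theorem tU_lin_comm : lin (tU * rU) = lin (rU * tU) ∧ tU.det = .o ∧ tU * tU = 1 ∧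
    rU * rU * rU = 1 ∧ tU ≠ 1 := by decide +kernel

end CaseA

namespace SetA

variable {G : Type u} [Group G] [Finite G] (S : SetA G)
include S

/-- The block subgroup of the affine group. -/
def blockG : Subgroup G where
  carrier := {g | ∃ a e f h i : Z3, (CaseA.blk a e f h i .z).det = .o ∧
    S.el (CaseA.blk a e f h i .z) = g}
  one_mem' := ⟨.o, .o, .z, .z, .o, rfl, S.el_one⟩
  mul_mem' := by
    rintro _ _ ⟨a, e, f, h, i, hd, rfl⟩ ⟨a', e', f', h', i', hd', rfl⟩
    obtain ⟨E, F, H, I, hm⟩ := CaseA.blk_mul a e f h i .z a' e' f' h' i' .z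
    have hz : Z3.add .z (Z3.mul a .z) = .z :=
      (by decide : ∀ v : Z3, Z3.add .z (Z3.mul v .z) = .z) a
    rw [hz] at hm
    exact ⟨_, E, F, H, I, hm ▸ A3.det_mul hd hd', by rw [← hm, S.el_mul hd hd']⟩
  inv_mem' := by
    rintro _ ⟨a, e, f, h, i, hd, rfl⟩
    obtain ⟨hd', hm⟩ := CaseA.blk_inverse a e f h i hd
    exact ⟨_, _, _, _, _, hd', eq_inv_of_mul_eq_one_right (by rw [← S.el_mul hd hd', hm, S.el_one])⟩

theorem card_blockG : Nat.card S.blockG = 48 := by
  let f : {p : Z3 × Z3 × Z3 × Z3 × Z3 //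
      (CaseA.blk p.1 p.2.1 p.2.2.1 p.2.2.2.1 p.2.2.2.2 .z).det = .o} → S.blockG :=
    fun p => ⟨_, _, _, _, _, _, p.2, rfl⟩
  have hf : Function.Bijective f := by
    constructor
    · rintro ⟨⟨a, e, g, h, i⟩, hd⟩ ⟨⟨a', e', g', h', i'⟩, hd'⟩ hh
      have e0 := S.el_inj hd hd' (congrArg Subtype.val hh)
      simp only [CaseA.blk, A3.mk.injEq] at e0
      obtain ⟨rfl, -, -, -, rfl, rfl, -, rfl, rfl, -, -, -⟩ := e0
      rfl
    · rintro ⟨_, a, e, g, h, i, hd, rfl⟩
      exact ⟨⟨(a, e, g, h, i), hd⟩, rfl⟩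
  rw [← Nat.card_eq_of_bijective f hf, Nat.card_eq_fintype_card]
  decide +kernel

/-- An involution of the affine group is conjugate there to the standard one. -/
theorem invol_conj {s : G} (hs : s ∈ S.iota.range) (h2 : s * s = 1) (h1 : s ≠ 1) :
    ∃ c ∈ S.iota.range, c * S.el CaseA.tU * c⁻¹ = s := by
  classical
  haveI : Fact (Nat.Prime 2) := ⟨Nat.prime_two⟩
  have hle : S.blockG ≤ S.iota.range := by
    rintro _ ⟨a, e, f, h, i, hd, rfl⟩
    exact S.el_mem _
  obtain ⟨P⟩ : Nonempty (Sylow 2 S.blockG) := inferInstance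
  set T : Subgroup S.iota.range := (P : Subgroup S.blockG).map (Subgroup.inclusion hle) with hT
  have hcP : Nat.card (P : Subgroup S.blockG) = 16 := by
    rw [Sylow.card_eq_multiplicity, S.card_blockG, show (48 : ℕ) = 2 ^ 4 * 3 by norm_num,
      Nat.factorization_mul (by norm_num) (by norm_num), Finsupp.add_apply,
      Nat.prime_two.factorization_pow, Finsupp.single_eq_same,
      Nat.factorization_eq_zero_of_not_dvd (by norm_num : ¬ 2 ∣ 3)]
    norm_num
  have hcT : Nat.card T = 16 := by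
    rw [hT, card_map_of_injective (Subgroup.inclusion_injective hle), hcP]
  let Q : Sylow 2 S.iota.range := (IsPGroup.of_card (n := 4) (G := T) (by rw [hcT]; norm_num)).toSylow
    (by
      have h := T.card_mul_index
      rw [hcT, S.card_range] at h
      rw [show T.index = 9477 by omega]
      norm_num)
  set sR : S.iota.range := ⟨s, hs⟩ with hsR
  have hp : IsPGroup 2 (zpowers sR) := by
    intro a
    obtain ⟨n, hn⟩ := mem_zpowers_iff.1 a.2
    refine ⟨1, Subtype.ext ?_⟩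
    push_cast
    rw [← hn, ← zpow_natCast, ← zpow_mul, mul_comm, zpow_mul, zpow_natCast,
      show sR ^ 2 = 1 from Subtype.ext (by simpa [pow_two] using h2), one_zpow]
  obtain ⟨R, hR⟩ := hp.exists_le_sylow
  obtain ⟨k, hk⟩ := MulAction.exists_smul_eq S.iota.range Q R
  have hsR' : sR ∈ (R : Subgroup S.iota.range) := hR (mem_zpowers _)
  rw [← hk, Sylow.coe_subgroup_smul, mem_pointwise_smul_iff_inv_smul_mem] at hsR'
  obtain ⟨⟨b, hb⟩, -, hbe⟩ := (hsR' : _ ∈ T)
  have hb' : b = (k : G)⁻¹ * s * k := by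
    have := congrArg Subtype.val hbe
    simpa [MulAut.smul_def] using this
  obtain ⟨a, e, f, h, i, hd, hel⟩ := hb
  have hb2 : b * b = 1 := by
    rw [hb', show (k : G)⁻¹ * s * k * ((k : G)⁻¹ * s * k) = (k : G)⁻¹ * (s * s) * k by group, h2]
    group
  have hbn : b ≠ 1 := fun h0 => h1 (by
    rw [hb'] at h0
    calc s = (k : G) * ((k : G)⁻¹ * s * k) * (k : G)⁻¹ := by group
      _ = 1 := by rw [h0]; group)
  obtain ⟨g, hg, hge⟩ := CaseA.blk_inv a e f h i hd
    (S.el_inj (A3.det_mul hd hd) rfl (by rw [S.el_mul hd hd, hel, hb2, S.el_one]))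
    (fun h0 => hbn (by rw [← hel, h0, S.el_one]))
  have hgd := CaseA.invWit_det g hg
  refine ⟨k * (S.el g)⁻¹, mul_mem k.2 (inv_mem (S.el_mem g)), ?_⟩
  rw [S.el_conj hgd hd S.tU_det hge, hel, hb']
  group

/-- The centraliser of the involution has order at most 144. -/
theorem card_cent_T : Nat.card (centralizer ({S.el CaseA.tU} : Set G)) ≤ 144 := by
  let f : {p : Z3 × Z3 × Z3 × Z3 × Z3 × Z3 //
      (CaseA.blk p.1 p.2.1 p.2.2.1 p.2.2.2.1 p.2.2.2.2.1 p.2.2.2.2.2).det = .o} →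
      centralizer ({S.el CaseA.tU} : Set G) :=
    fun p => ⟨S.el (CaseA.blk p.1.1 p.1.2.1 p.1.2.2.1 p.1.2.2.2.1 p.1.2.2.2.2.1 p.1.2.2.2.2.2),
      mem_centralizer_singleton_iff.2 ((S.el_comm p.2 S.tU_det).2 (CaseA.blk_comm ..)).eq⟩
  have hf : Function.Surjective f := by
    rintro ⟨g, hg⟩
    obtain ⟨p, hp, hpe⟩ := S.exists_el (S.cent_T hg)
    have hsh := CaseA.eq_blk hp ((S.el_comm hp S.tU_det).1
      (by rw [hpe]; exact mem_centralizer_singleton_iff.1 hg))
    exact ⟨⟨(p.a, p.e, p.f, p.h, p.i, p.x), hsh ▸ hp⟩, Subtype.ext (by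
      show S.el (CaseA.blk p.a p.e p.f p.h p.i p.x) = g
      rw [← hsh, hpe])⟩
  refine (Nat.card_le_card_of_surjective f hf).trans (le_of_eq ?_)
  rw [Nat.card_eq_fintype_card]
  decide +kernel

/-- An element of order three of the affine group commutes with a conjugate of `z` there. -/
theorem exists_pure_commute {d : G} (hd : d ∈ S.iota.range) (h3 : d ^ 3 = 1) :
    ∃ v ∈ S.iota.range, S.Pure v ∧ Commute d v := by
  obtain ⟨a, ha, h⟩ := S.classify hd h3
  have hz : S.z ∈ S.iota.range := S.cz_le (S.mem_Cz.2 rfl)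
  refine ⟨a * S.z * a⁻¹, mul_mem (mul_mem ha hz) (inv_mem ha), isConj_iff.2 ⟨a, rfl⟩, ?_⟩
  rcases h with ⟨x, y, w, rfl⟩ | ⟨r, hr, rfl⟩ <;> refine (Commute.conj_iff a).2 ?_ <;>
    rw [← S.el_Z0]
  · exact (S.el_comm rfl rfl).2
      ((by decide +kernel : ∀ x y w : Z3, tr x y w * Z0 = Z0 * tr x y w) x y w)
  · exact (S.el_comm (CaseA.reps_det r hr) rfl).2 (CaseA.reps_fix r hr)

/-- An element of order three over a transvection whose centraliser has an involution has its
centraliser in the affine group. -/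
theorem cent_over_transvection {d s : A3} (hd : d.det = .o) (hl : CaseA.lin d = CaseA.rU)
    (h3 : d * d * d = 1) (hs : s.det = .o) (hs2 : s * s = 1) (hs1 : s ≠ 1) (hc : s * d = d * s) :
    centralizer ({S.el d} : Set G) ≤ S.iota.range := by
  have he : d = upper .z .z .o d.x d.y d.w := by
    cases d
    simp only [CaseA.lin, CaseA.rU, upper, A3.mk.injEq] at hl
    obtain ⟨rfl, rfl, rfl, rfl, rfl, rfl, rfl, rfl, rfl, -, -, -⟩ := hl
    rfl
  obtain ⟨g, hg, r, hr, her⟩ := CaseA.transvection_rep d.x d.y d.w (by rw [← he]; exact h3)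
  rw [← he] at her
  have hgd := CaseA.affWit_det g hg
  have hrd : r.det = .o :=
    (by decide +kernel : ∀ r ∈ [CaseA.rU, CaseA.rXp, CaseA.rXm, CaseA.rY], r.det = .o) r hr
  refine S.cent_conj hgd hd hrd her ?_
  simp only [List.mem_cons, List.not_mem_nil, or_false] at hr
  rcases hr with rfl | rfl | rfl | rfl
  · exact S.cent_U
  · exact S.cent_Xp
  · exact S.cent_Xm
  · exfalso
    -- the involution would centralise `rY`
    have hcs : S.el g * S.el s * (S.el g)⁻¹ * S.el CaseA.rY =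
        S.el CaseA.rY * (S.el g * S.el s * (S.el g)⁻¹) := by
      rw [S.el_conj hgd hd hrd her]
      exact ((Commute.conj_iff (S.el g)).2 ((S.el_comm hs hd).2 hc)).eq
    obtain ⟨c, d', e, f, x, y, w, hdet, hcm, hel⟩ := S.exists_sh CaseA.y_facts.1 hrd
      (mul_mem (mul_mem (S.el_mem g) (S.el_mem s)) (inv_mem (S.el_mem g))) hcs
    obtain ⟨rfl, rfl, rfl⟩ := CaseA.y_facts.2 c d' e f x y w hdet hcm
    have hcube := (S.el_pow_three hdet).2 (CaseA.y_cube d' w x y)
    rw [hel, conj_pow, conj_eq_one_iff, pow_succ, pow_two, ← S.el_mul hs hs, hs2, S.el_one,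
      one_mul] at hcube
    exact hs1 (S.el_inj hs rfl (hcube.trans S.el_one.symm))

end SetA

end Cfsg.Agent.L43Three
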