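import Cfsg.Agent.Lib.L43Three.CaseA.Invol
import Cfsg.Agent.Lib.Classical.SL

/-!
S3373, case A: the group equals its affine subgroup, by counting the conjugates of an involution in
the cosets of the affine subgroup.
-/

set_option autoImplicit false
set_option linter.style.haveILetI false
set_option linter.unusedSectionVars false
set_option maxRecDepth 20000
set_option synthInstance.maxSize 2000
set_option maxHeartbeats 1000000
set_option linter.constructorNameAsVariable false

namespace Cfsg.Agent.L43Three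

open Subgroup
open WreathChar (Z3)
open A3 (tr upper fix1 qel Z0 eA)

universe u

theorem sl3_simple : IsSimpleGroup SL₃ := by
  haveI : Fact (Nat.Prime 3) := ⟨Nat.prime_three⟩
  haveI := ClassicalSL.isSimpleGroup_psl (ι := Fin 3) (F := K) (by simp)
  have hinj : Function.Injective (QuotientGroup.mk' (Subgroup.center SL₃)) := by
    rw [← MonoidHom.ker_eq_bot_iff, QuotientGroup.ker_mk']
    refine card_eq_one.1 ?_
    rw [ClassicalSL.card_center_sl, Fintype.card_fin, Nat.card_zmod]
    rfl
  exact (MulEquiv.ofBijective _ ⟨hinj, QuotientGroup.mk'_surjective _⟩ :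
    SL₃ ≃* Matrix.ProjectiveSpecialLinearGroup (Fin 3) K).isSimpleGroup

/-- A subgroup of `SL(3,3)` of order at least 1053 is the whole group. -/
theorem sl3_large (I : Subgroup SL₃) (h : 1053 ≤ Nat.card I) : I = ⊤ := by
  classical
  haveI := sl3_simple
  have hm := I.card_mul_index
  rw [card_sl3] at hm
  have hk : I.index ≤ 5 := by
    by_contra hk
    nlinarith
  rcases I.normalCore_normal.eq_bot_or_eq_top with hb | ht
  · exfalso
    have hinj : Function.Injective (MulAction.toPermHom SL₃ (SL₃ ⧸ I)) := by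
      rw [← MonoidHom.ker_eq_bot_iff, ← Subgroup.normalCore_eq_ker, hb]
    have h1 := Nat.card_le_card_of_injective _ hinj
    rw [card_sl3, Nat.card_perm, ← Subgroup.index] at h1
    have h2 : I.index.factorial ≤ (5 : ℕ).factorial := Nat.factorial_le hk
    norm_num [Nat.factorial] at h2
    omega
  · exact eq_top_iff.2 (ht ▸ I.normalCore_le)

namespace A3

theorem lin_of_right {p q : A3} (hp : p.det = .o) (hq : q.det = .o)
    (h : p.toAff.right = q.toAff.right) : CaseA.lin p = CaseA.lin q := by
  have e := congrArg (fun A : SL₃ => A.1) h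
  simp only [toAff_right hp, toAff_right hq] at e
  have g : ∀ i j, p.toM i j = q.toM i j := fun i j => by rw [e]
  simp only [CaseA.lin, A3.mk.injEq, and_true]
  exact ⟨toZ_inj _ _ (g 0 0), toZ_inj _ _ (g 0 1), toZ_inj _ _ (g 0 2), toZ_inj _ _ (g 1 0),
    toZ_inj _ _ (g 1 1), toZ_inj _ _ (g 1 2), toZ_inj _ _ (g 2 0), toZ_inj _ _ (g 2 1),
    toZ_inj _ _ (g 2 2)⟩

theorem right_of_lin {p q : A3} (hp : p.det = .o) (hq : q.det = .o)
    (h : CaseA.lin p = CaseA.lin q) : p.toAff.right = q.toAff.right := by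
  refine Subtype.ext ?_
  rw [toAff_right hp, toAff_right hq]
  simp only [CaseA.lin, A3.mk.injEq, and_true] at h
  obtain ⟨h1, h2, h3, h4, h5, h6, h7, h8, h9⟩ := h
  rw [toM, toM, h1, h2, h3, h4, h5, h6, h7, h8, h9]

end A3

namespace SetA

variable {G : Type u} [Group G] [Finite G] (S : SetA G)
include S

/-- The intersection of the affine group with a conjugate. -/
def meet (a : G) : Subgroup Aff :=
  S.iota.range.comap ((MulAut.conj a).toMonoidHom.comp S.iota)

theorem mem_meet {a : G} {n : Aff} : n ∈ S.meet a ↔ a * S.iota n * a⁻¹ ∈ S.iota.range := Iff.rfl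

theorem meet_small {a : G} (ha : a ∉ S.iota.range) : Nat.card (S.meet a) ≤ 1052 := by
  classical
  by_contra hbig
  set ρ : S.meet a →* SL₃ := SemidirectProduct.rightHom.comp (S.meet a).subtype with hρ
  have hinj : Function.Injective ρ := by
    rw [injective_iff_map_eq_one]
    rintro ⟨n, hn⟩ h
    have hr : n.right = 1 := h
    have e : n = trans n.left := by
      refine SemidirectProduct.ext ?_ ?_
      · rfl
      · rw [hr]; rfl
    refine Subtype.ext ?_
    by_contra h1
    have hmem : S.iota n ∈ S.V := ⟨n.left, by rw [MonoidHom.comp_apply, ← e]⟩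
    have hne : S.iota n ≠ 1 := fun h0 => h1 (S.iota_inj (h0.trans (map_one _).symm))
    exact ha (S.ti (S.V_le hmem) (S.pure_V hmem hne) hn)
  have hcard : Nat.card ρ.range = Nat.card (S.meet a) :=
    (Nat.card_congr (MonoidHom.ofInjective hinj).toEquiv).symm
  have htop := sl3_large ρ.range (by rw [hcard]; omega)
  obtain ⟨hlc, htd, ht2, hu3, ht1⟩ := CaseA.tU_lin_comm
  have hud : CaseA.rU.det = .o := S.rU_det
  obtain ⟨⟨n, hn⟩, hnr⟩ := (htop ▸ mem_top _ : CaseA.rU.toAff.right ∈ ρ.range)
  obtain ⟨⟨m, hm⟩, hmr⟩ := (htop ▸ mem_top _ : CaseA.tU.toAff.right ∈ ρ.range)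
  replace hnr : n.right = CaseA.rU.toAff.right := hnr
  replace hmr : m.right = CaseA.tU.toAff.right := hmr
  obtain ⟨p, hp, rfl⟩ := A3.exists_rep n
  obtain ⟨q, hq, rfl⟩ := A3.exists_rep m
  have lift : ∀ {x y : A3}, x.det = .o → y.det = .o → x.toAff ∈ S.meet a → y.toAff ∈ S.meet a →
      x.toAff.right = y.toAff.right → x = y := fun {x y} hx hy hxm hym h =>
    A3.toAff_inj hx hy (congrArg Subtype.val
      (hinj (show ρ ⟨_, hxm⟩ = ρ ⟨_, hym⟩ from h)))
  have hone : (1 : A3).toAff ∈ S.meet a := by rw [A3.toAff_one]; exact one_mem _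
  have hmul : ∀ {x y : A3}, x.det = .o → y.det = .o → x.toAff ∈ S.meet a → y.toAff ∈ S.meet a →
      (x * y).toAff ∈ S.meet a := fun {x y} hx hy hxm hym => by
    rw [A3.toAff_mul hx hy]; exact mul_mem hxm hym
  have hd2 := fun {x : A3} (hx : x.det = .o) => A3.det_mul hx hx
  have hp3 : p * p * p = 1 := lift (A3.det_mul (hd2 hp) hp) rfl (hmul (hd2 hp) hp (hmul hp hp hn hn) hn)
    hone (by
      rw [A3.toAff_mul (hd2 hp) hp, A3.toAff_mul hp hp, SemidirectProduct.mul_right,
        SemidirectProduct.mul_right, hnr, ← SemidirectProduct.mul_right,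
        ← SemidirectProduct.mul_right, ← A3.toAff_mul hud hud, ← A3.toAff_mul (hd2 hud) hud, hu3])
  have hq2 : q * q = 1 := lift (hd2 hq) rfl (hmul hq hq hm hm) hone (by
    rw [A3.toAff_mul hq hq, SemidirectProduct.mul_right, hmr, ← SemidirectProduct.mul_right,
      ← A3.toAff_mul htd htd, ht2])
  have hq1 : q ≠ 1 := fun h => ht1 (A3.toAff_inj htd rfl (by
    have h2 : CaseA.tU.toAff.right = (1 : A3).toAff.right := by rw [← hmr, h]
    have hl := A3.lin_of_right htd rfl h2
    rw [show CaseA.tU = CaseA.lin CaseA.tU from rfl, hl]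
    rfl))
  have hqp : q * p = p * q := lift (A3.det_mul hq hp) (A3.det_mul hp hq) (hmul hq hp hm hn)
    (hmul hp hq hn hm) (by
      rw [A3.toAff_mul hq hp, A3.toAff_mul hp hq, SemidirectProduct.mul_right,
        SemidirectProduct.mul_right, hnr, hmr, ← SemidirectProduct.mul_right,
        ← SemidirectProduct.mul_right, ← A3.toAff_mul htd hud, ← A3.toAff_mul hud htd]
      exact A3.right_of_lin (A3.det_mul htd hud) (A3.det_mul hud htd) hlc)
  have hC := S.cent_over_transvection hp
    ((A3.lin_of_right hp hud hnr).trans rfl) hp3 hq hq2 hq1 hqp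
  have hd' : a * S.el p * a⁻¹ ∈ S.iota.range := hn
  obtain ⟨v, hv, hvp, hvc⟩ := S.exists_pure_commute hd'
    (by rw [conj_pow, (S.el_pow_three hp).2 hp3, mul_one, mul_inv_cancel])
  have h2 : a⁻¹ * v * a⁻¹⁻¹ ∈ centralizer ({S.el p} : Set G) := by
    refine mem_centralizer_singleton_iff.2 ?_
    rw [inv_inv]
    calc a⁻¹ * v * a * S.el p = a⁻¹ * (v * (a * S.el p * a⁻¹)) * a := by group
      _ = _ := by rw [← hvc.eq]; group
  exact ha (inv_mem_iff.1 (S.ti hv hvp (hC h2)))

/-- **Case A.** The group is the affine group. -/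
theorem range_eq_top : S.iota.range = ⊤ := by
  classical
  by_contra hne
  set H := S.iota.range with hH
  set t := S.el CaseA.tU with ht
  set C := centralizer ({t} : Set G) with hC
  have htH : t ∈ H := S.el_mem _
  have ht2 : t * t = 1 := by rw [ht, ← S.el_mul S.tU_det S.tU_det, CaseA.u_tt, S.el_one]
  have ht1 : t ≠ 1 := fun h =>
    CaseA.tU_lin_comm.2.2.2.2 (S.el_inj S.tU_det rfl (h.trans S.el_one.symm))
  have hCH : C ≤ H := S.cent_T
  haveI : Fintype G := Fintype.ofFinite G
  let T := {b : G // ∃ g : G, g * t * g⁻¹ = b}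
  -- the size of the class
  let e : G ⧸ C → T := Quotient.lift (fun g => ⟨g * t * g⁻¹, g, rfl⟩) fun g g' hgg => Subtype.ext (by
    have hc := mem_centralizer_singleton_iff.1 (QuotientGroup.leftRel_apply.1 hgg)
    calc g * t * g⁻¹ = g * (t * (g⁻¹ * g')) * g'⁻¹ := by group
      _ = _ := by rw [← hc]; group)
  have he : Function.Bijective e := by
    constructor
    · intro x y
      induction x using QuotientGroup.induction_on with | H x => ?_
      induction y using QuotientGroup.induction_on with | H y => ?_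
      intro h
      refine QuotientGroup.eq.2 (mem_centralizer_singleton_iff.2 ?_)
      have h' : x * t * x⁻¹ = y * t * y⁻¹ := congrArg Subtype.val h
      calc x⁻¹ * y * t = x⁻¹ * (y * t * y⁻¹) * y := by group
        _ = _ := by rw [← h']; group
    · rintro ⟨b, g, rfl⟩
      exact ⟨QuotientGroup.mk g, rfl⟩
  have hT : Nat.card T = C.index := (Nat.card_eq_of_bijective e he).symm
  set m := (C.subgroupOf H).index with hm
  have hmn : C.index = m * H.index := (relIndex_mul_index hCH).symm
  have hm1 : 1053 ≤ m := by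
    have h := (C.subgroupOf H).card_mul_index
    rw [← hm, hH, S.card_range] at h
    have hc : Nat.card (C.subgroupOf H) ≤ 144 := by
      rw [Nat.card_congr (subgroupOfEquivOfLe hCH).toEquiv]
      exact S.card_cent_T
    rw [← hH] at h
    nlinarith
  -- the fibres
  let π : T → G ⧸ H := fun b => QuotientGroup.mk b.1
  have hfib1 : Nat.card {b : T // π b = QuotientGroup.mk 1} ≤ m := by
    let f : H ⧸ C.subgroupOf H → {b : T // π b = QuotientGroup.mk 1} :=
      Quotient.lift (fun k => ⟨⟨(k : G) * t * (k : G)⁻¹, k, rfl⟩, QuotientGroup.eq.2 (by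
        simpa [mul_assoc] using mul_mem (mul_mem k.2 (inv_mem htH)) (inv_mem k.2))⟩)
        fun k k' hkk => Subtype.ext (Subtype.ext (by
          have hc : (k : G)⁻¹ * k' ∈ C :=
            (QuotientGroup.leftRel_apply.1 hkk : k⁻¹ * k' ∈ C.subgroupOf H)
          have hc' := mem_centralizer_singleton_iff.1 hc
          show (k : G) * t * (k : G)⁻¹ = (k' : G) * t * (k' : G)⁻¹
          calc (k : G) * t * (k : G)⁻¹ = (k : G) * (t * ((k : G)⁻¹ * k')) * (k' : G)⁻¹ := by group
            _ = _ := by rw [← hc']; group))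
    have hf : Function.Surjective f := by
      rintro ⟨⟨b, g, hg⟩, hb⟩
      have hbH : b ∈ H := by
        have := QuotientGroup.eq.1 hb
        simpa using inv_mem this
      have hb2 : b * b = 1 := by
        rw [← hg, show g * t * g⁻¹ * (g * t * g⁻¹) = g * (t * t) * g⁻¹ by group, ht2]; group
      obtain ⟨c, hc, hce⟩ := S.invol_conj hbH hb2 (fun h => ht1 (conj_eq_one_iff.1 (hg.trans h)))
      exact ⟨QuotientGroup.mk ⟨c, hc⟩, Subtype.ext (Subtype.ext hce)⟩
    exact (Nat.card_le_card_of_surjective f hf).trans (le_of_eq rfl)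
  have hfib : ∀ q : G ⧸ H, q ≠ QuotientGroup.mk 1 → Nat.card {b : T // π b = q} ≤ 1052 := by
    intro q hq
    rcases isEmpty_or_nonempty {b : T // π b = q} with h | ⟨⟨a, haq⟩⟩
    · rw [Nat.card_of_isEmpty]; norm_num
    have haH : a.1 ∉ H := fun h => hq (haq.symm.trans (QuotientGroup.eq.2 (by simpa using inv_mem h)))
    have hinvol : ∀ b : T, b.1 * b.1 = 1 := by
      rintro ⟨b, g, rfl⟩
      show g * t * g⁻¹ * (g * t * g⁻¹) = 1
      rw [show g * t * g⁻¹ * (g * t * g⁻¹) = g * (t * t) * g⁻¹ by group, ht2]; group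
    have hmem : ∀ b : {b : T // π b = q}, a.1 * b.1.1 ∈ H := fun b => by
      have := QuotientGroup.eq.1 (haq.trans b.2.symm)
      rwa [inv_eq_of_mul_eq_one_right (hinvol a)] at this
    have hmem' : ∀ b : {b : T // π b = q}, ∃ n, S.iota n = a.1 * b.1.1 := fun b =>
      MonoidHom.mem_range.1 (hmem b)
    choose n hn using hmem'
    let g : {b : T // π b = q} → S.meet a.1 := fun b => ⟨n b, S.mem_meet.2 (by
      have := inv_mem (hmem b)
      rw [hn b]
      convert this using 1
      rw [mul_inv_rev, inv_eq_of_mul_eq_one_right (hinvol a),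
        inv_eq_of_mul_eq_one_right (hinvol b.1), ← mul_assoc a.1 a.1, hinvol a, one_mul])⟩
    have hg : Function.Injective g := by
      intro b b' h
      have h1 : a.1 * b.1.1 = a.1 * b'.1.1 := by
        rw [← hn b, ← hn b', show n b = n b' from congrArg Subtype.val h]
      exact Subtype.ext (Subtype.ext (mul_left_cancel h1))
    haveI : Finite Aff := Finite.of_injective S.iota S.iota_inj
    exact (Nat.card_le_card_of_injective g hg).trans (S.meet_small haH)
  haveI : Fintype (G ⧸ H) := Fintype.ofFinite _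
  have hsum : Nat.card T = ∑ q : G ⧸ H, Nat.card {b : T // π b = q} := by
    rw [← Nat.card_sigma, Nat.card_congr (Equiv.sigmaFiberEquiv π)]
  rw [← Finset.add_sum_erase _ _ (Finset.mem_univ (QuotientGroup.mk 1 : G ⧸ H)), hT, hmn] at hsum
  have hs := Finset.sum_le_card_nsmul (Finset.univ.erase (QuotientGroup.mk 1 : G ⧸ H)) _ 1052
    fun q hq => hfib q (Finset.ne_of_mem_erase hq)
  rw [Finset.card_erase_of_mem (Finset.mem_univ _), Finset.card_univ, ← Nat.card_eq_fintype_card,
    ← Subgroup.index, smul_eq_mul] at hs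
  have hn2 : 2 ≤ H.index := by
    have h1 : H.index ≠ 1 := fun h => hne (index_eq_one.1 h)
    have h0 : H.index ≠ 0 := index_ne_zero_of_finite
    omega
  obtain ⟨k, hk⟩ : ∃ k, H.index = k + 2 := ⟨H.index - 2, by omega⟩
  rw [hk, show k + 2 - 1 = k + 1 by omega] at hs
  rw [hk] at hsum
  nlinarith

end SetA

end Cfsg.Agent.L43Three
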