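import Cfsg.Agent.Lib.L43Three.Loc
import Cfsg.Agent.Lib.L43Three.CaseA.Facts

/-!
S3373, case A: the conjugates of `z` in the affine group are translations.
-/

set_option autoImplicit false
set_option linter.style.haveILetI false
set_option linter.unusedSectionVars false
set_option maxRecDepth 20000
set_option synthInstance.maxSize 2000

namespace Cfsg.Agent.L43Three

open Subgroup
open WreathChar (Z3)
open A3 (tr upper fix1 qel Z0 eA)

/-- Case A: the second root element is not conjugate to `z`. -/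
structure SetA (G : Type*) [Group G] [Finite G] extends Loc G where
  not_pure : ¬ IsConj z (toLoc.el A3.eA)

namespace Loc

variable {G : Type*} [Group G] [Finite G] (L : Loc G)
include L

theorem el_pow_three {p : A3} (hp : p.det = .o) : L.el p ^ 3 = 1 ↔ p * p * p = 1 := by
  rw [pow_succ, pow_two, ← L.el_mul hp hp, ← L.el_mul (A3.det_mul hp hp) hp]
  exact ⟨fun h => L.el_inj (A3.det_mul (A3.det_mul hp hp) hp) rfl (h.trans L.el_one.symm),
    fun h => by rw [h, L.el_one]⟩

theorem el_det_tr (x y w : Z3) : (tr x y w).det = .o :=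
  (by decide +kernel : ∀ x y w : Z3, (tr x y w).det = .o) x y w

/-- Conjugacy inside the affine group preserves being conjugate to `z`. -/
theorem pure_witness {g p r : A3} (hg : g.det = .o) (hp : p.det = .o) (hr : r.det = .o)
    (h : g * p = r * g) : L.Pure (L.el p) ↔ L.Pure (L.el r) := by
  rw [L.el_conj hg hp hr h]
  refine ⟨L.pure_conj _, fun h2 => ?_⟩
  have := L.pure_conj (L.el g)⁻¹ h2
  rwa [show (L.el g)⁻¹ * (L.el g * L.el p * (L.el g)⁻¹) * (L.el g)⁻¹⁻¹ = L.el p by group] at this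

/-- The upper unitriangular elements. -/
def triangular : Subgroup G where
  carrier := {x | ∃ b c f x' y w : Z3, L.el (upper b c f x' y w) = x}
  one_mem' := ⟨.z, .z, .z, .z, .z, .z, L.el_one⟩
  mul_mem' := by
    rintro _ _ ⟨b, c, f, x, y, w, rfl⟩ ⟨b', c', f', x', y', w', rfl⟩
    have key : ∀ b c f x y w b' c' f' x' y' w' : Z3, ∃ B C F X Y W : Z3,
        upper b c f x y w * upper b' c' f' x' y' w' = upper B C F X Y W := fun b c f x y w b' c' f' x' y' w' => by
      have hz : ∀ u : Z3, Z3.mul .z u = .z := fun _ => rfl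
      have hz' : ∀ u : Z3, Z3.mul u .z = .z := by decide
      have ho : ∀ u : Z3, Z3.mul u .o = u := by decide
      have az : ∀ u : Z3, Z3.add u .z = u := by decide
      have za : ∀ u : Z3, Z3.add .z u = u := by decide
      have ho' : ∀ u : Z3, Z3.mul .o u = u := fun _ => rfl
      exact ⟨_, _, _, _, _, _, by
        show A3.mul _ _ = _
        simp only [A3.mul, upper, hz, hz', ho, ho', az, za]
        rfl⟩
    obtain ⟨B, C, F, X, Y, W, e⟩ := key b c f x y w b' c' f' x' y' w'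
    exact ⟨B, C, F, X, Y, W, by rw [← e, L.el_mul (CaseA.upper_det ..) (CaseA.upper_det ..)]⟩
  inv_mem' := by
    rintro _ ⟨b, c, f, x, y, w, rfl⟩
    have key : ∀ b c f x y w : Z3, upper b c f x y w *
        upper (Z3.neg b) (Z3.add (Z3.mul b f) (Z3.neg c)) (Z3.neg f)
          (Z3.neg (Z3.add (Z3.add x (Z3.mul (Z3.neg b) y)) (Z3.mul (Z3.add (Z3.mul b f) (Z3.neg c)) w)))
          (Z3.neg (Z3.add y (Z3.mul (Z3.neg f) w))) (Z3.neg w) = 1 := by decide +kernel
    exact ⟨_, _, _, _, _, _, eq_inv_of_mul_eq_one_right (by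
      rw [← L.el_mul (CaseA.upper_det ..) (CaseA.upper_det ..), key b c f x y w, L.el_one])⟩

theorem triangular_le : L.triangular ≤ L.iota.range := fun x ⟨_, _, _, _, _, _, h⟩ => h ▸ L.el_mem _

theorem card_triangular : Nat.card L.triangular = 729 := by
  let f : Z3 × Z3 × Z3 × Z3 × Z3 × Z3 → L.triangular := fun p =>
    ⟨L.el (upper p.1 p.2.1 p.2.2.1 p.2.2.2.1 p.2.2.2.2.1 p.2.2.2.2.2), _, _, _, _, _, _, rfl⟩
  have hf : Function.Bijective f := by
    constructor
    · rintro ⟨b, c, d, x, y, w⟩ ⟨b', c', d', x', y', w'⟩ h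
      have e := L.el_inj (CaseA.upper_det ..) (CaseA.upper_det ..) (congrArg Subtype.val h)
      simp only [upper, A3.mk.injEq] at e
      obtain ⟨-, rfl, rfl, -, -, rfl, -, -, -, rfl, rfl, rfl⟩ := e
      rfl
    · rintro ⟨_, b, c, d, x, y, w, rfl⟩
      exact ⟨(b, c, d, x, y, w), rfl⟩
  rw [← Nat.card_eq_of_bijective f hf, Nat.card_prod, Nat.card_prod, Nat.card_prod, Nat.card_prod,
    Nat.card_prod, Nat.card_eq_fintype_card]
  decide

theorem card_range : Nat.card L.iota.range = 151632 := by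
  rw [← Nat.card_congr (MonoidHom.ofInjective L.iota_inj).toEquiv, SemidirectProduct.card,
    card_sl3, Nat.card_congr Multiplicative.toAdd, Nat.card_fun, Nat.card_zmod, Nat.card_fin]
  norm_num

/-- The upper unitriangular Sylow subgroup of the affine group. -/
noncomputable def sylowS : Sylow 3 L.iota.range :=
  haveI : Fact (Nat.Prime 3) := ⟨Nat.prime_three⟩
  (IsPGroup.of_card (n := 6) (by
    rw [Nat.card_congr (subgroupOfEquivOfLe L.triangular_le).toEquiv, L.card_triangular]; norm_num)).toSylow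
    (G := L.iota.range) (P := L.triangular.subgroupOf L.iota.range) (by
      have h := (L.triangular.subgroupOf L.iota.range).card_mul_index
      rw [L.card_range, Nat.card_congr (subgroupOfEquivOfLe L.triangular_le).toEquiv,
        L.card_triangular] at h
      rw [show (L.triangular.subgroupOf L.iota.range).index = 208 by omega]
      norm_num)

theorem sylowS_map : (L.sylowS : Subgroup L.iota.range).map L.iota.range.subtype = L.triangular := by
  show (L.triangular.subgroupOf L.iota.range).map L.iota.range.subtype = L.triangular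
  rw [subgroupOf_map_subtype, inf_eq_left.2 L.triangular_le]

/-- An element of order three of the affine group is a conjugate of a translation or of one of
five representatives. -/
theorem classify {g : G} (hg : g ∈ L.iota.range) (h3 : g ^ 3 = 1) :
    ∃ a ∈ L.iota.range, (∃ x y w : Z3, g = a * L.el (tr x y w) * a⁻¹) ∨
      ∃ r ∈ CaseA.reps, g = a * L.el r * a⁻¹ := by
  haveI : Fact (Nat.Prime 3) := ⟨Nat.prime_three⟩
  have hp : IsPGroup 3 (zpowers (⟨g, hg⟩ : L.iota.range)) := by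
    intro x
    obtain ⟨n, hn⟩ := mem_zpowers_iff.1 x.2
    refine ⟨1, Subtype.ext (Subtype.ext ?_)⟩
    push_cast
    rw [← hn]
    push_cast
    rw [← zpow_natCast, ← zpow_mul, mul_comm, zpow_mul, zpow_natCast, h3, one_zpow]
  obtain ⟨R, hR⟩ := hp.exists_le_sylow
  obtain ⟨k, hk⟩ := MulAction.exists_smul_eq L.iota.range L.sylowS R
  have hgR : (⟨g, hg⟩ : L.iota.range) ∈ (R : Subgroup L.iota.range) := hR (mem_zpowers _)
  rw [← hk, Sylow.coe_subgroup_smul, mem_pointwise_smul_iff_inv_smul_mem] at hgR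
  have hs : (k : G)⁻¹ * g * k ∈ L.triangular := by
    rw [← L.sylowS_map]
    refine ⟨_, hgR, ?_⟩
    simp [MulAut.smul_def]
  obtain ⟨b, c, f, x, y, w, hel⟩ := hs
  obtain ⟨a, ha, x', y', w', hshape⟩ : ∃ a ∈ L.iota.range, ∃ x' y' w' : Z3,
      g = a * L.el (tr x' y' w') * a⁻¹ ∨ g = a * L.el (upper .z .z .o x' y' w') * a⁻¹ ∨
        g = a * L.el (upper .o .z .o x' y' w') * a⁻¹ := by
    obtain ⟨m, hm, e⟩ := CaseA.step_one b c f x y w
    have hmd := CaseA.linWit_det m hm
    refine ⟨k * (L.el m)⁻¹, mul_mem k.2 (inv_mem (L.el_mem m)), ?_⟩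
    have fin : ∀ r : A3, r.det = .o → m * upper b c f x y w = r * m →
        g = k * (L.el m)⁻¹ * L.el r * (k * (L.el m)⁻¹)⁻¹ := fun r hr hh => by
      rw [L.el_conj hmd (CaseA.upper_det ..) hr hh, hel]; group
    rcases e with e | e | e
    · exact ⟨_, _, _, Or.inl (fin _ (L.el_det_tr ..) e)⟩
    · exact ⟨_, _, _, Or.inr (Or.inl (fin _ (CaseA.upper_det ..) e))⟩
    · exact ⟨_, _, _, Or.inr (Or.inr (fin _ (CaseA.upper_det ..) e))⟩
  rcases hshape with e | e | e
  · exact ⟨a, ha, Or.inl ⟨x', y', w', e⟩⟩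
  all_goals
    have hcube := h3
    rw [e, conj_pow, conj_eq_one_iff, L.el_pow_three (CaseA.upper_det ..)] at hcube
  · obtain ⟨m, hm, r, hr, er⟩ := (CaseA.step_two x' y' w').1 hcube
    refine ⟨a * (L.el m)⁻¹, mul_mem ha (inv_mem (L.el_mem m)), Or.inr ⟨r, hr, ?_⟩⟩
    rw [L.el_conj (CaseA.affWit_det m hm) (CaseA.upper_det ..) (CaseA.reps_det r hr) er, e]; group
  · obtain ⟨m, hm, r, hr, er⟩ := (CaseA.step_two x' y' w').2 hcube
    refine ⟨a * (L.el m)⁻¹, mul_mem ha (inv_mem (L.el_mem m)), Or.inr ⟨r, hr, ?_⟩⟩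
    rw [L.el_conj (CaseA.affWit_det m hm) (CaseA.upper_det ..) (CaseA.reps_det r hr) er, e]; group

theorem mixed_not_pure {r : A3} (hr : r = CaseA.rXp ∨ r = CaseA.rXm ∨ r = CaseA.rY) :
    ¬ L.Pure (L.el r) := by
  intro h
  obtain ⟨h1, h2, h3, -⟩ := CaseA.mixed_wit
  have hs := CaseA.sw_det.1
  rcases hr with rfl | rfl | rfl
  · rcases L.pure_qel ((L.pure_witness hs (by decide +kernel) (Loc.qel_det ..) h1).1 h) with e | e
    · exact absurd e.2 (by decide)
    · exact absurd e.1 (by decide)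
  · rcases L.pure_qel ((L.pure_witness hs (by decide +kernel) (Loc.qel_det ..) h2).1 h) with e | e
    · exact absurd e.2 (by decide)
    · exact absurd e.1 (by decide)
  · rcases L.pure_qel ((L.pure_witness hs (by decide +kernel) (Loc.qel_det ..) h3).1 h) with e | e
    · exact absurd e.2 (by decide)
    · exact absurd e.2 (by decide)

end Loc

namespace SetA

variable {G : Type*} [Group G] [Finite G] (S : SetA G)
include S

theorem vp_not_pure {b c x : Z3} (h : ¬ (b = .z ∧ c = .z)) : ¬ S.Pure (S.el (qel b c x .z .z)) := by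
  intro hp
  obtain ⟨g, hg, e⟩ := CaseA.vp_orbit b c x h
  exact S.not_pure ((S.pure_witness (CaseA.vpWit_det g hg) (by decide +kernel) (Loc.qel_det ..) e).2 hp)

theorem rU_not_pure : ¬ S.Pure (S.el CaseA.rU) := fun h =>
  S.not_pure ((S.pure_witness CaseA.sw_det.2 (by decide +kernel) (by decide +kernel)
    CaseA.mixed_wit.2.2.2).1 h)

theorem rR_not_pure : ¬ S.Pure (S.el CaseA.rR) := by
  intro hp
  obtain ⟨g, hg⟩ := isConj_iff.1 hp
  obtain ⟨hcomm, hcube, -⟩ := CaseA.rR_facts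
  have hrd : CaseA.rR.det = .o := by decide +kernel
  set p := S.el CaseA.rR with hp'
  have hpC : p ∈ S.Cz := S.el_mem_Cz hrd hcomm
  have hpQ : p ∉ S.Q := by
    intro h
    obtain ⟨b, c, x, y, w, e⟩ := S.mem_Q.1 h
    exact (by decide +kernel : ∀ b c x y w : Z3, qel b c x y w ≠ CaseA.rR) b c x y w
      (S.el_inj (Loc.qel_det ..) hrd e)
  have hpz : p ∉ zpowers S.z := fun h => hpQ (S.Z_le_Q h)
  -- the element `g⁻¹ z g`
  set v := g⁻¹ * S.z * g with hv
  have hvC : v ∈ S.Cz := by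
    refine S.mem_Cz.2 ?_
    have h : p * S.z = S.z * p := S.mem_Cz.1 hpC
    rw [← hg] at h
    calc v * S.z = g⁻¹ * (S.z * (g * S.z * g⁻¹)) * g := by rw [hv]; group
      _ = _ := by rw [← h, hv]; group
  have hvz : v ∉ zpowers S.z := by
    intro h
    apply hpz
    have hzz : zpowers v = zpowers S.z := by
      refine eq_of_le_of_card_ge (zpowers_le.2 h) (le_of_eq ?_)
      rw [S.card_Z, Nat.card_zpowers, hv,
        show g⁻¹ * S.z * g = MulAut.conj g⁻¹ S.z by simp, MulEquiv.orderOf_eq, S.order_z]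
    obtain ⟨n, hn⟩ := mem_zpowers_iff.1 (hzz ▸ mem_zpowers S.z : S.z ∈ zpowers v)
    have e : S.z = g⁻¹ * S.z ^ n * g := by
      conv_lhs => rw [← hn, hv]
      have := conj_zpow (a := g⁻¹) (b := S.z) (i := n)
      rw [inv_inv] at this
      exact this
    refine ⟨n, ?_⟩
    show S.z ^ n = p
    rw [← hg]
    conv_rhs => rw [e]
    group
  have hvQ : v ∉ S.Q := fun h => by
    have := S.exchange (g := g⁻¹) (by rwa [inv_inv]) (by rwa [inv_inv])
    rw [inv_inv, hg] at this
    exact hpQ this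
  obtain ⟨b, c, e, f, h, i, x, y, w, hd, hel⟩ := S.exists_fix hvC
  obtain ⟨m, hm, hmv⟩ := CaseA.cube_comm b c e f h i x y w hd (by
    rw [← S.el_pow_three hd, hel, hv, show g⁻¹ * S.z * g = MulAut.conj g⁻¹ S.z by simp, ← map_pow,
      S.z3, map_one]) (fun ⟨e1, e2, e3, e4⟩ => hvQ (by
    subst e1 e2 e3 e4
    exact S.mem_Q.2 ⟨b, c, x, y, w, hel⟩))
  obtain ⟨hmz, hmd, hmshape⟩ := CaseA.modElts_shape m hm
  -- the three elements `m zʲ` transported by `g`
  have htrans : ∀ j ∈ [1, Z0, Z0 * Z0], ∃ k a x' : Z3,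
      g * S.el (m * j) * g⁻¹ = S.el (upper k a k x' .z .z) := by
    intro j hj
    have hjd : j.det = .o := (by decide +kernel : ∀ j ∈ [1, Z0, Z0 * Z0], j.det = .o) j hj
    have hjz : j * Z0 = Z0 * j := (by decide +kernel : ∀ j ∈ [1, Z0, Z0 * Z0], j * Z0 = Z0 * j) j hj
    have hz0 : Z0.det = .o := by decide +kernel
    have hcz : Commute (S.el (m * j)) S.z := by
      rw [S.el_mul hmd hjd, ← S.el_Z0]
      exact ((S.el_comm hmd hz0).2 hmz).mul_left ((S.el_comm hjd hz0).2 hjz)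
    have hcv : Commute (S.el (m * j)) v := by
      rw [S.el_mul hmd hjd]
      refine Commute.mul_left ?_ ?_
      · rw [← hel]; exact ((S.el_comm hmd hd).2 hmv.symm)
      · have : S.el j ∈ zpowers S.z := by
          simp only [List.mem_cons, List.not_mem_nil, or_false] at hj
          rcases hj with rfl | rfl | rfl
          · rw [S.el_one]; exact one_mem _
          · rw [S.el_Z0]; exact mem_zpowers _
          · rw [S.el_mul hz0 hz0, S.el_Z0]; exact mul_mem (mem_zpowers _) (mem_zpowers _)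
        exact (S.commute_zpow hvC this).symm
    have h1 : g * S.el (m * j) * g⁻¹ ∈ S.Cz := by
      refine S.mem_Cz.2 ?_
      have := (Commute.conj_iff g).2 hcv
      rw [hv, show g * (g⁻¹ * S.z * g) * g⁻¹ = S.z by group] at this
      exact this.eq
    have h2 : Commute (g * S.el (m * j) * g⁻¹) p := by
      rw [← hg]; exact (Commute.conj_iff g).2 hcz
    obtain ⟨b', c', e', f', h', i', x', y', w', hd', hel'⟩ := S.exists_fix h1
    have hc := (S.el_comm hd' hrd).1 (hel'.symm ▸ h2)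
    exact ⟨b', c', x', by rw [← hel', CaseA.rR_cent _ _ _ _ _ _ _ _ _ hd' hc]⟩
  obtain ⟨k, a, x', hk⟩ := htrans 1 (List.mem_cons_self)
  -- multiplying by `p` shifts the exponent
  have hshift : ∀ j : A3, j ∈ [1, Z0, Z0 * Z0] → ∀ k a x' : Z3,
      g * S.el (m * j) * g⁻¹ = S.el (upper k a k x' .z .z) →
      ∃ a' x'', g * S.el (m * j * Z0) * g⁻¹ =
        S.el (upper (Z3.add k .o) a' (Z3.add k .o) x'' .z .z) := by
    intro j hj k a x' e1
    have hjd : j.det = .o := (by decide +kernel : ∀ j ∈ [1, Z0, Z0 * Z0], j.det = .o) j hj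
    refine ⟨(upper k a k x' .z .z * CaseA.rR).c, (upper k a k x' .z .z * CaseA.rR).x, ?_⟩
    rw [← (CaseA.rR_step k a x').2, S.el_mul (CaseA.upper_det ..) hrd, ← e1, ← hp', ← hg,
      S.el_mul (A3.det_mul hmd hjd) (by decide +kernel), S.el_Z0]
    group
  obtain ⟨a1, x1, hk1⟩ := hshift 1 (List.mem_cons_self) k a x' hk
  have hm1 : m * 1 = m := S.el_inj (A3.det_mul hmd rfl) hmd (by rw [S.el_mul hmd rfl, S.el_one, mul_one])
  obtain ⟨a2, x2, hk2⟩ := hshift Z0 (by simp) _ a1 x1 (by rwa [hm1] at hk1)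
  have hall : ∀ j ∈ [1, Z0, Z0 * Z0], ∀ k a x' : Z3,
      g * S.el (m * j) * g⁻¹ = S.el (upper k a k x' .z .z) →
      (S.Pure (S.el (m * j)) ↔ k ≠ .z) := by
    intro j hj k a x' e1
    have hiff : S.Pure (S.el (m * j)) ↔ S.Pure (S.el (upper k a k x' .z .z)) := by
      rw [← e1]
      refine ⟨S.pure_conj g, fun h2 => ?_⟩
      have := S.pure_conj g⁻¹ h2
      rwa [show g⁻¹ * (g * S.el (m * j) * g⁻¹) * g⁻¹⁻¹ = S.el (m * j) by group] at this
    by_cases hk0 : k = .z
    · subst hk0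
      refine ⟨fun hpj => absurd (hiff.1 hpj) ?_, fun h => absurd rfl h⟩
      by_cases ha : a = .z
      · subst ha
        exfalso
        have hmem : g * S.el (m * j) * g⁻¹ ∈ zpowers S.z := by
          rw [e1]
          rcases (by decide : ∀ u : Z3, u = .z ∨ u = .o ∨ u = .d) x' with rfl | rfl | rfl
          · rw [show upper .z .z .z .z .z .z = 1 from rfl, S.el_one]; exact one_mem _
          · exact S.el_Z0.symm ▸ mem_zpowers _
          · rw [show upper .z .z .z .d .z .z = Z0 * Z0 by decide +kernel, S.el_mul rfl rfl, S.el_Z0]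
            exact mul_mem (mem_zpowers _) (mem_zpowers _)
        have hjd : j.det = .o := (by decide +kernel : ∀ j ∈ [1, Z0, Z0 * Z0], j.det = .o) j hj
        have hn1 : S.el (m * j) ≠ 1 := by
          intro h1
          have e0 := S.el_inj (A3.det_mul hmd hjd) rfl (h1.trans S.el_one.symm)
          rcases hmshape j hj with ⟨⟨u1, u2, u3, eu, hne⟩, -⟩ | ⟨⟨u1, u2, u3, eu, hne⟩, -⟩
          · rw [eu] at e0
            exact hne ((by decide +kernel : ∀ u1 u2 u3 : Z3, tr u1 u2 u3 = 1 → u2 = .z ∧ u3 = .z) _ _ _ e0)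
          · rw [eu] at e0
            exact hne ((by decide +kernel : ∀ u1 u2 u3 : Z3, qel u1 u2 u3 .z .z = 1 → u1 = .z ∧ u2 = .z)
              _ _ _ e0)
        have hnQ : S.el (m * j) ∈ S.Q := by
          rcases hmshape j hj with ⟨⟨u1, u2, u3, eu, -⟩, -⟩ | ⟨⟨u1, u2, u3, eu, -⟩, -⟩ <;> rw [eu]
          · exact S.tr_Q _ _ _
          · exact S.mem_Q.2 ⟨_, _, _, _, _, rfl⟩
        rcases S.z_cases hmem with h1 | h1 | h1
        · exact hn1 (conj_eq_one_iff.1 h1)
        · refine hvQ ?_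
          rw [hv, ← h1]
          rwa [show g⁻¹ * (g * S.el (m * j) * g⁻¹) * g = S.el (m * j) by group]
        · refine hvQ ?_
          rw [hv, ← inv_inv S.z, ← h1]
          rw [show g⁻¹ * (g * S.el (m * j) * g⁻¹)⁻¹ * g = (S.el (m * j))⁻¹ by group]
          exact inv_mem hnQ
      · rw [(CaseA.upper_k_zero a x').1 ha]
        exact S.vp_not_pure fun h => ha h.2
    · refine ⟨fun _ => hk0, fun _ => hiff.2 ?_⟩
      obtain ⟨u, hu, eu⟩ := CaseA.reg_orbit k a x' hk0
      exact (S.pure_witness (CaseA.regWit_det u hu) hrd (CaseA.upper_det ..) eu).1 hp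
  have i0 := hall 1 (List.mem_cons_self) k a x' hk
  have i1 := hall Z0 (by simp) _ a1 x1 (by rwa [hm1] at hk1)
  have hz0 : Z0.det = .o := by decide +kernel
  have hm2 : m * Z0 * Z0 = m * (Z0 * Z0) := S.el_inj (A3.det_mul (A3.det_mul hmd hz0) hz0)
    (A3.det_mul hmd (A3.det_mul hz0 hz0)) (by
      rw [S.el_mul (A3.det_mul hmd hz0) hz0, S.el_mul hmd hz0, S.el_mul hmd (A3.det_mul hz0 hz0),
        S.el_mul hz0 hz0, mul_assoc])
  have i2 := hall (Z0 * Z0) (by simp) _ a2 x2 (by rwa [hm2] at hk2)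
  have iff3 : (S.Pure (S.el (m * 1)) ↔ S.Pure (S.el (m * Z0))) ∧
      (S.Pure (S.el (m * 1)) ↔ S.Pure (S.el (m * (Z0 * Z0)))) := by
    rcases hmshape 1 (List.mem_cons_self) with ⟨-, hall'⟩ | ⟨-, hall'⟩
    · have pj : ∀ j ∈ [1, Z0, Z0 * Z0], S.Pure (S.el (m * j)) := fun j hj => by
        obtain ⟨u1, u2, u3, eu, hne⟩ := hall' j hj
        rw [eu]
        exact S.pure_tr fun e0 => hne
          ((by decide +kernel : ∀ u1 u2 u3 : Z3, tr u1 u2 u3 = 1 → u2 = .z ∧ u3 = .z) _ _ _ e0)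
      exact ⟨iff_of_true (pj _ (by simp)) (pj _ (by simp)), iff_of_true (pj _ (by simp)) (pj _ (by simp))⟩
    · have pj : ∀ j ∈ [1, Z0, Z0 * Z0], ¬ S.Pure (S.el (m * j)) := fun j hj => by
        obtain ⟨u1, u2, u3, eu, hne⟩ := hall' j hj
        rw [eu]
        exact S.vp_not_pure hne
      exact ⟨iff_of_false (pj _ (by simp)) (pj _ (by simp)), iff_of_false (pj _ (by simp)) (pj _ (by simp))⟩
  rw [i0, i1, i2] at iff3
  exact (by decide : ∀ k : Z3, ¬ ((k ≠ .z ↔ Z3.add k .o ≠ .z) ∧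
    (k ≠ .z ↔ Z3.add (Z3.add k .o) .o ≠ .z))) k iff3

theorem rep_not_pure {r : A3} (hr : r ∈ CaseA.reps) : ¬ S.Pure (S.el r) := by
  simp only [CaseA.reps, List.mem_cons, List.not_mem_nil, or_false] at hr
  rcases hr with rfl | rfl | rfl | rfl | rfl
  · exact S.rU_not_pure
  · exact S.mixed_not_pure (Or.inl rfl)
  · exact S.mixed_not_pure (Or.inr (Or.inl rfl))
  · exact S.mixed_not_pure (Or.inr (Or.inr rfl))
  · exact S.rR_not_pure

/-- The group of translations. -/
abbrev V : Subgroup G := (S.iota.comp trans).range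

theorem conj_V {a x : G} (ha : a ∈ S.iota.range) (hx : x ∈ S.V) : a * x * a⁻¹ ∈ S.V := by
  rw [← S.norm_eq] at ha
  exact (mem_normalizer_iff.1 ha _).1 hx

/-- The conjugates of `z` in the affine group are translations. -/
theorem pure_mem {g : G} (hg : g ∈ S.iota.range) (hp : S.Pure g) : g ∈ S.V := by
  have h3 : g ^ 3 = 1 := by
    obtain ⟨c, hc⟩ := isConj_iff.1 hp
    rw [← hc, conj_pow, S.z3, mul_one, mul_inv_cancel]
  obtain ⟨a, ha, h | ⟨r, hr, e⟩⟩ := S.classify hg h3
  · obtain ⟨x, y, w, e⟩ := h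
    rw [e]
    exact S.conj_V ha (S.el_tr_mem x y w)
  · refine absurd ?_ (S.rep_not_pure hr)
    have := S.pure_conj a⁻¹ hp
    rwa [e, show a⁻¹ * (a * S.el r * a⁻¹) * a⁻¹⁻¹ = S.el r by group] at this

/-- An element moving a conjugate of `z` in the affine group into it lies in it. -/
theorem ti {g v : G} (hv : v ∈ S.iota.range) (hp : S.Pure v) (hg : g * v * g⁻¹ ∈ S.iota.range) :
    g ∈ S.iota.range := by
  obtain ⟨u, rfl⟩ := S.pure_mem hv hp
  obtain ⟨u', hu'⟩ := S.pure_mem hg (S.pure_conj g hp)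
  have hne : ∀ {w : Multiplicative Vec}, S.Pure (S.iota (trans w)) → w ≠ 1 := fun {w} hw h => by
    obtain ⟨c, hc⟩ := isConj_iff.1 hw
    rw [h, map_one, map_one] at hc
    exact S.z_ne (conj_eq_one_iff.1 hc)
  obtain ⟨n, hn⟩ := S.trans_pure u (hne hp)
  have hu'' : g * S.iota (trans u) * g⁻¹ = S.iota (trans u') := hu'.symm
  obtain ⟨n', hn'⟩ := S.trans_pure u' (hne (hu'' ▸ S.pure_conj g hp))
  have hc : (S.iota n')⁻¹ * g * S.iota n ∈ S.Cz := by
    refine S.mem_Cz.2 ?_
    calc (S.iota n')⁻¹ * g * S.iota n * S.z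
        = (S.iota n')⁻¹ * (g * (S.iota n * S.z * (S.iota n)⁻¹) * g⁻¹) * g * S.iota n := by group
      _ = _ := by rw [hn, hu'', ← hn']; group
  have := mul_mem (mul_mem (show S.iota n' ∈ S.iota.range from ⟨n', rfl⟩) (S.cz_le hc))
    (inv_mem (show S.iota n ∈ S.iota.range from ⟨n, rfl⟩))
  rwa [show S.iota n' * ((S.iota n')⁻¹ * g * S.iota n) * (S.iota n)⁻¹ = g by group] at this

end SetA

end Cfsg.Agent.L43Three
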