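import Cfsg.Agent.Lib.L43Three.CaseA.Pure
import Cfsg.Agent.Lib.Transfer.Tate
import Cfsg.Agent.Lib.Transfer.Basic
import Cfsg.Agent.Lib.Solvable.Coprime
import Cfsg.Agent.Lib.Fusion.InnerCriterion
import Cfsg.Agent.Lib.Isolated.RankTwo
import Cfsg.Agent.S2792

/-!
S3373, case A: a plane of translations inside a local subgroup; subgroups meeting the affine group
in a 3-group of class at most two lie in it.
-/

set_option autoImplicit false
set_option linter.style.haveILetI false
set_option linter.unusedSectionVars false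
set_option maxRecDepth 20000
set_option synthInstance.maxSize 2000
set_option maxHeartbeats 1000000

namespace Cfsg.Agent.L43Three

open Subgroup
open scoped commutatorElement
open WreathChar (Z3)
open A3 (tr upper fix1 qel Z0 eA)

namespace CaseA

/-- The shape of the centraliser of the linear part of the transvection representative. -/
def sh (c d e f x y w : Z3) : A3 := ⟨.o, .z, c, d, e, f, .z, .z, e, x, y, w⟩

/-- The linear part. -/
def lin (p : A3) : A3 := ⟨p.a, p.b, p.c, p.d, p.e, p.f, p.g, p.h, p.i, .z, .z, .z⟩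

theorem lin_comm : ∀ a b c d e f g h i : Z3,
    (⟨a, b, c, d, e, f, g, h, i, .z, .z, .z⟩ : A3).det = .o →
    lin (⟨a, b, c, d, e, f, g, h, i, .z, .z, .z⟩ * rU) =
      lin (rU * ⟨a, b, c, d, e, f, g, h, i, .z, .z, .z⟩) →
    a = .o ∧ b = .z ∧ g = .z ∧ h = .z ∧ i = e := by decide +kernel

theorem lin_mul (p r : A3) : lin (p * r) = lin (lin p * lin r) := rfl

theorem lin_det (p : A3) : (lin p).det = p.det := rfl

/-- An element commuting with an element over the transvection has the shape `sh`. -/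
theorem eq_sh {p r : A3} (hr : lin r = rU) (hp : p.det = .o) (h : p * r = r * p) :
    p = sh p.c p.d p.e p.f p.x p.y p.w := by
  have e1 := congrArg lin h
  rw [lin_mul, lin_mul r, hr] at e1
  obtain ⟨ha, hb, hg, hh, hi⟩ :=
    lin_comm p.a p.b p.c p.d p.e p.f p.g p.h p.i ((lin_det p).trans hp) e1
  cases p
  simp only [sh] at *
  subst ha hb hg hh hi
  rfl

theorem three_nsmul : ∀ c : ZMod 3, 3 • c = 0 := by decide

theorem tr_plane : ∀ x y x' y' : Z3, tr x y .z * tr x' y' .z = tr (Z3.add x x') (Z3.add y y') .z ∧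
    tr x y .z * tr (Z3.neg x) (Z3.neg y) .z = 1 := by decide +kernel

theorem cent_plane : ∀ b c e f h i x y w : Z3, (fix1 b c e f h i x y w).det = .o →
    fix1 b c e f h i x y w * tr .z .o .z = tr .z .o .z * fix1 b c e f h i x y w →
    fix1 b c e f h i x y w * fix1 b c e f h i x y w * fix1 b c e f h i x y w = 1 := by decide +kernel

end CaseA

namespace SetA

variable {G : Type*} [Group G] [Finite G] (S : SetA G)
include S

theorem V_le : S.V ≤ S.iota.range := by
  rintro _ ⟨v, rfl⟩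
  exact ⟨trans v, rfl⟩

theorem pure_V {a : G} (ha : a ∈ S.V) (h1 : a ≠ 1) : S.Pure a := by
  obtain ⟨v, rfl⟩ := ha
  have hv : v ≠ 1 := fun h => h1 (by rw [h, map_one])
  obtain ⟨n, hn⟩ := S.trans_pure v hv
  exact isConj_iff.2 ⟨_, hn⟩

/-- Centralisers of translations lie in the affine group. -/
theorem cent_V {a : G} (ha : a ∈ S.V) (h1 : a ≠ 1) :
    centralizer ({a} : Set G) ≤ S.iota.range := by
  intro g hg
  refine S.ti (S.V_le ha) (S.pure_V ha h1) ?_
  rw [mem_centralizer_singleton_iff.1 hg, mul_inv_cancel_right]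
  exact S.V_le ha

/-- The normaliser of a subgroup of the affine group meeting the translations lies in it. -/
theorem normalizer_le {T : Subgroup G} (hT : T ≤ S.iota.range) {v : G} (hv : v ∈ T) (hvV : v ∈ S.V)
    (h1 : v ≠ 1) : normalizer (T : Set G) ≤ S.iota.range := fun g hg =>
  S.ti (hT hv) (S.pure_V hvV h1) (hT ((mem_normalizer_iff.1 hg v).1 hv))

/-- The plane of translations fixed by the transvection representative. -/
def W : Subgroup G where
  carrier := {g | ∃ x y : Z3, S.el (tr x y .z) = g}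
  one_mem' := ⟨.z, .z, S.el_one⟩
  mul_mem' := by
    rintro _ _ ⟨x, y, rfl⟩ ⟨x', y', rfl⟩
    exact ⟨_, _, by rw [← (CaseA.tr_plane x y x' y').1, S.el_mul rfl rfl]⟩
  inv_mem' := by
    rintro _ ⟨x, y, rfl⟩
    exact ⟨_, _, eq_inv_of_mul_eq_one_right (by
      rw [← S.el_mul rfl rfl, (CaseA.tr_plane x y x y).2, S.el_one])⟩

theorem W_le_V : S.W ≤ S.V := by
  rintro _ ⟨x, y, rfl⟩
  exact S.el_tr_mem x y .z

theorem mem_W (x y : Z3) : S.el (tr x y .z) ∈ S.W := ⟨x, y, rfl⟩

theorem W_comm : IsMulCommutative S.W := ⟨⟨fun a b => Subtype.ext (by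
  obtain ⟨u, hu⟩ := S.W_le_V a.2
  obtain ⟨u', hu'⟩ := S.W_le_V b.2
  show (a : G) * b = b * a
  rw [← hu, ← hu', ← map_mul, ← map_mul, mul_comm u])⟩⟩

theorem card_W : Nat.card S.W = 9 := by
  let f : Z3 × Z3 → S.W := fun p => ⟨_, S.mem_W p.1 p.2⟩
  have hf : Function.Bijective f := by
    constructor
    · rintro ⟨x, y⟩ ⟨x', y'⟩ h
      have e := S.el_inj rfl rfl (congrArg Subtype.val h)
      simp only [tr, A3.mk.injEq] at e
      obtain ⟨-, -, -, -, -, -, -, -, -, rfl, rfl, -⟩ := e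
      rfl
    · rintro ⟨_, x, y, rfl⟩
      exact ⟨(x, y), rfl⟩
  rw [← Nat.card_eq_of_bijective f hf, Nat.card_prod, Nat.card_eq_fintype_card]
  decide

theorem W_exp : ∀ a : S.W, a ^ 3 = 1 := by
  rintro ⟨_, x, y, rfl⟩
  refine Subtype.ext ?_
  show S.el (tr x y .z) ^ 3 = 1
  exact (S.el_pow_three rfl).2
    ((by decide +kernel : ∀ x y : Z3, tr x y .z * tr x y .z * tr x y .z = 1) x y)

theorem W_not_cyclic : ¬ IsCyclic S.W := by
  intro h
  obtain ⟨a, ha⟩ := h.exists_generator
  have h1 := orderOf_le_of_pow_eq_one (by norm_num) (S.W_exp a)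
  rw [orderOf_eq_card_of_forall_mem_zpowers ha, S.card_W] at h1
  omega

/-- A subgroup of order prime to three normalised by the plane is trivial. -/
theorem core_W {K : Subgroup G} (hW : S.W ≤ normalizer (K : Set G))
    (hK : (Nat.card K).Coprime 3) : K = ⊥ := by
  haveI : Fact (Nat.Prime 3) := ⟨Nat.prime_three⟩
  haveI := S.W_comm
  have hcop : (Nat.card S.W).Coprime (Nat.card K) := by
    rw [S.card_W, show (9 : ℕ) = 3 ^ 2 from rfl]
    exact (hK.symm).pow_left 2
  have hKH : K ≤ S.iota.range := by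
    rw [← CoprimeAct.generated_by_centralizers (A := S.W) (K := K) S.W_not_cyclic hW hcop]
    exact iSup₂_le fun a ha => inf_le_right.trans (S.cent_V (S.W_le_V ha.1) ha.2)
  rw [eq_bot_iff]
  intro k hk
  rw [Subgroup.mem_bot]
  have hcomm : ∀ x y : Z3, S.el (tr x y .z) * k = k * S.el (tr x y .z) := by
    intro x y
    set v := S.el (tr x y .z)
    have hv : v ∈ S.V := S.el_tr_mem x y .z
    have h1 : ⁅k, v⁆ ∈ S.V := mul_mem (S.conj_V (hKH hk) hv) (inv_mem hv)
    have h2 : ⁅k, v⁆ ∈ K := by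
      rw [commutatorElement_def, mul_assoc, mul_assoc, ← mul_assoc v]
      exact mul_mem hk ((mem_normalizer_iff.1 (hW (S.mem_W x y)) k⁻¹).1 (inv_mem hk))
    have h3 : ⁅k, v⁆ = 1 := by
      obtain ⟨u, hu⟩ := h1
      refine PBasic.eq_one_of_isPGroup_of_coprime (P := S.V) (fun a => ?_) (hu ▸ ⟨u, rfl⟩)
        (hK.coprime_dvd_left (K.orderOf_dvd_natCard h2))
      obtain ⟨w, hw⟩ := a.2
      refine ⟨1, Subtype.ext ?_⟩
      push_cast
      rw [← hw, ← map_pow]
      convert map_one (S.iota.comp trans) using 2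
      refine Multiplicative.toAdd.injective (funext fun i => ?_)
      exact CaseA.three_nsmul (Multiplicative.toAdd w i)
    exact (commutatorElement_eq_one_iff_mul_comm.1 h3).symm
  have hz : k ∈ S.Cz := S.mem_Cz.2 (by rw [← S.el_Z0]; exact (hcomm .o .z).symm)
  obtain ⟨b, c, e, f, h, i, x, y, w, hd, hel⟩ := S.exists_fix hz
  refine PBasic.eq_one_of_isPGroup_of_coprime (P := zpowers k) (fun a => ⟨1, ?_⟩)
    (mem_zpowers k) (hK.coprime_dvd_left (K.orderOf_dvd_natCard hk))
  have h3 : k ^ 3 = 1 := by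
    rw [← hel, S.el_pow_three hd]
    refine CaseA.cent_plane b c e f h i x y w hd ((S.el_comm hd rfl).1 ?_)
    rw [hel]
    exact (hcomm .z .o).symm
  obtain ⟨n, hn⟩ := mem_zpowers_iff.1 a.2
  refine Subtype.ext ?_
  push_cast
  rw [← hn, ← zpow_natCast, ← zpow_mul, mul_comm, zpow_mul, zpow_natCast, h3, one_zpow]

/-- A subgroup containing the plane has trivial 3′-core. -/
theorem core_eq_bot {X : Subgroup G} (hW : S.W ≤ X) : Cfsg.pPrimeCore 3 X = ⊥ := by
  haveI : Fact (Nat.Prime 3) := ⟨Nat.prime_three⟩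
  set O := Cfsg.pPrimeCore 3 X
  haveI : O.Normal := Cfsg.pPrimeCore_normal 3 X
  refine (map_eq_bot_iff_of_injective _ X.subtype_injective).1 (S.core_W ?_ ?_)
  · intro w hw
    rw [mem_normalizer_iff]
    intro n
    constructor
    · rintro ⟨o, ho, rfl⟩
      exact ⟨⟨w, hW hw⟩ * o * ⟨w, hW hw⟩⁻¹, ‹O.Normal›.conj_mem o ho _, rfl⟩
    · rintro ⟨o, ho, e⟩
      refine ⟨⟨w, hW hw⟩⁻¹ * o * ⟨w, hW hw⟩, ?_, ?_⟩
      · simpa using ‹O.Normal›.conj_mem o ho ⟨w, hW hw⟩⁻¹
      · show w⁻¹ * (o : G) * w = n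
        rw [show (o : G) = w * n * w⁻¹ from e]
        group
  · rw [card_map_of_injective X.subtype_injective]
    exact PBasic.pPrimeCore_coprime 3 X

/-- A subgroup containing the plane and meeting the affine group in a 3-group of class at most two
lies in the affine group. -/
theorem small {X : Subgroup G} (hWX : S.W ≤ X) (h3 : ∀ a ∈ X, a ∈ S.iota.range → a ^ 3 = 1)
    (hcl : ∀ a ∈ X ⊓ S.iota.range, ∀ b ∈ X ⊓ S.iota.range, ∀ c ∈ X ⊓ S.iota.range,
      Commute ⁅a, b⁆ c) : X ≤ S.iota.range := by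
  haveI : Fact (Nat.Prime 3) := ⟨Nat.prime_three⟩
  set R : Subgroup X := S.iota.range.subgroupOf X with hR
  have hRp : IsPGroup 3 R := fun a => ⟨1, Subtype.ext (Subtype.ext (by
    simpa using h3 _ (a : X).2 a.2))⟩
  have hN : normalizer (R : Set X) = R := by
    refine le_antisymm (fun g hg => ?_) le_normalizer
    refine S.ti (S.V_le (S.el_tr_mem .o .z .z)) (S.pure_V (S.el_tr_mem .o .z .z) ?_) ?_
    · rw [show tr .o .z .z = Z0 from rfl, S.el_Z0]; exact S.z_ne
    · exact (mem_normalizer_iff.1 hg ⟨_, hWX (S.mem_W .o .z)⟩).1 (S.V_le (S.el_tr_mem .o .z .z))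
  obtain ⟨P, hP⟩ := hRp.exists_le_sylow
  have hPR : (P : Subgroup X) = R := by
    refine (eq_of_le_of_not_lt hP fun hlt => ?_).symm
    haveI := P.isPGroup'.isNilpotent
    have hne : R.subgroupOf (P : Subgroup X) < ⊤ :=
      lt_top_iff_ne_top.2 fun h => hlt.not_ge (subgroupOf_eq_top.1 h)
    obtain ⟨g, hg, hgR⟩ := SetLike.exists_of_lt (Group.normalizerCondition_of_isNilpotent _ hne)
    refine hgR (show (g : X) ∈ R from hN.le ?_)
    rw [mem_normalizer_iff]
    intro n
    constructor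
    · intro hn
      exact (mem_normalizer_iff.1 hg ⟨n, hP hn⟩).1 hn
    · intro hn
      have hnP : n ∈ (P : Subgroup X) := by
        have := mul_mem (mul_mem (inv_mem g.2) (hP hn)) g.2
        rwa [show ((g : X))⁻¹ * ((g : X) * n * (g : X)⁻¹) * g = n by group] at this
      exact (mem_normalizer_iff.1 hg ⟨n, hnP⟩).2 hn
  have hcl' : ∀ a ∈ R, ∀ b ∈ R, ∀ c ∈ R, Commute ⁅a, b⁆ c := fun a ha b hb c hc =>
    Subtype.ext (hcl a ⟨a.2, ha⟩ b ⟨b.2, hb⟩ c ⟨c.2, hc⟩).eq
  have htr : R ⊓ commutator X ≤ ⁅R, R⁆ := by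
    have hwc : Cfsg.IsWeaklyClosed R (P : Subgroup X) := by
      refine ⟨hP, fun g hg => eq_of_le_of_card_ge (hg.trans hPR.le) (le_of_eq ?_)⟩
      exact (card_map_of_injective (MulAut.conj g).injective).symm
    by_contra hne
    obtain ⟨a, ha, c, hc, W₀, hW₀, -, h⟩ := Cfsg.Agent.S2792.result P R hwc (by
      rw [hPR, hN]
      intro e
      exact hne (e.le.trans inf_le_right))
    refine h ?_
    have e : (fun y : X => y⁻¹ * c⁻¹ * y * c)^[3 - 1] a = 1 := by
      have hk := hcl' _ (inv_mem (hPR ▸ ha : a ∈ R)) _ (inv_mem hc) c hc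
      show (a⁻¹ * c⁻¹ * a * c)⁻¹ * c⁻¹ * (a⁻¹ * c⁻¹ * a * c) * c = 1
      rw [show a⁻¹ * c⁻¹ * a * c = ⁅a⁻¹, c⁻¹⁆ by rw [commutatorElement_def, inv_inv, inv_inv],
        mul_assoc _ _ c, hk.eq]
      group
    rw [e]
    exact one_mem _
  haveI : (commutator X).Normal := inferInstance
  have hcomp : Cfsg.HasNormalPComplement 3 (commutator X) := by
    refine Tate.hasNormalPComplement_of_inf_le P (commutator X) ?_
    refine le_trans ?_ (FusionSys.commutator_le_frattini_map P.isPGroup')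
    rw [inf_comm, hPR]
    exact htr
  have hcore : Cfsg.pPrimeCore 3 (commutator X) = ⊥ := by
    have h := PBasic.map_pPrimeCore_le_of_normal (p := 3) (commutator X)
    rw [S.core_eq_bot hWX, le_bot_iff,
      map_eq_bot_iff_of_injective _ (commutator X).subtype_injective] at h
    exact h
  have hpg : IsPGroup 3 (commutator X) := IsoRankTwo.isPGroup_of_npc hcore hcomp
  have hle : commutator X ≤ R := hPR ▸ hpg.le_sylow_of_normal P
  have hnR : R.Normal := ⟨fun n hn g => by
    have : ⁅g, n⁆ ∈ R := hle (commutator_mem_commutator (mem_top g) (mem_top n))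
    simpa [commutatorElement_def] using mul_mem this hn⟩
  intro g hg
  have : (⟨g, hg⟩ : X) ∈ R := hN ▸ (normalizer_eq_top_iff.2 hnR ▸ mem_top _)
  exact this

end SetA

end Cfsg.Agent.L43Three
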